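/- S1917: the local lemma: a `q`-group centralizing the fixed points of an operator. -/
import Cfsg.Agent.Lib.Fl.Map
import Cfsg.Agent.Lib.Fl.Loc
import Cfsg.Agent.Lib.Fl.LocAb

set_option autoImplicit false
set_option linter.unusedSectionVars false

namespace Cfsg.Agent.Lib.Pt

open Subgroup Cfsg.Agent.Lib.Core Cfsg.Agent.Lib.Glaub Cfsg.Agent.Lib.ZJ Cfsg.Agent.FT
  Cfsg.Agent.Lib.Fl
open scoped commutatorElement

universe u

section
variable {Γ : Type u} [Group Γ] [Finite Γ] {Q : Type*} [Group Q] {X : Subgroup Γ} (f : X →* Q)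

/-- Fixed points of a coprime action pass to any homomorphic image. -/
theorem bar_inf_cent_le {A W : Subgroup Γ} (hA : A ≤ X) (hW : W ≤ X) (h : CoprimeAct A W) :
    Core.bar f W ⊓ 𝐂(Core.bar f A) ≤ Core.bar f (W ⊓ 𝐂(A)) := by
  rintro _ ⟨⟨g, hg, rfl⟩, hc⟩
  have hg' : (g : Γ) ∈ W := hg
  have hK : CoprimeAct A (W ⊓ kerOf f : Subgroup Γ) := h.mono_right inf_le_left
    (le_normalizer_inf h.le_norm (hA.trans (le_normalizer_kerOf f)))
  obtain ⟨c, hc', n, hn, e⟩ := hK.exists_centralizer_mul (g := g) fun a ha => by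
    refine mem_inf.2 ⟨?_, ?_⟩
    · have := W.mul_mem (conj_mem_of_mem_normalizer' (h.le_norm ha) (W.inv_mem hg')) hg'
      simpa [mul_assoc] using this
    · have e := hc _ (mem_bar_of_mem f (x := ⟨a, hA ha⟩) ha)
      refine (mem_kerOf f (x := (⟨a, hA ha⟩ : X)⁻¹ * (g⁻¹ * ⟨a, hA ha⟩ * g))).mpr ?_
      simp only [map_mul, map_inv, mul_assoc, e]
      group
  have hcW : c ∈ W := by simpa [e] using W.mul_mem hg' (W.inv_mem hn.1)
  refine (mem_bar f).mpr ⟨⟨c, hW hcW⟩, ⟨hcW, hc'⟩, ?_⟩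
  have : g = ⟨c, hW hcW⟩ * ⟨n, hW hn.1⟩ := Subtype.ext e
  rw [this, map_mul, (mem_kerOf f (x := ⟨n, hW hn.1⟩)).mp hn.2, mul_one]
end

variable {Γ : Type u} [Group Γ] [Finite Γ] {p q r : ℕ} [hp : Fact p.Prime] [hq : Fact q.Prime]
  [hr : Fact r.Prime]

/-- The hypotheses of the local lemma. -/
structure LH (p q r : ℕ) (W S A : Subgroup Γ) (b : Γ) (T : Set Γ) : Prop where
  pq : q ≠ p
  rp : p ≠ r
  rq : q ≠ r
  hW : IsPGroup p W
  hS : IsPGroup q S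
  hA : IsPGroup r A
  ab : A ≤ 𝐂(A)
  SW : S ≤ 𝐍(W)
  AW : A ≤ 𝐍(W)
  AS : A ≤ 𝐍(S)
  bA : b ∈ A
  pow : b ^ r = 1
  eq : ⁅S, zpowers b⁆ = S
  fix : W ⊓ 𝐂(zpowers b) ≤ 𝐂(S)
  two : q = 2 → S ⊓ 𝐂(A) = ⊥
  gen : q = 2 → A ≤ zpowers b ∨ ∀ K : Subgroup Γ, (∀ a ∈ T, S ⊓ 𝐂(zpowers a) ≤ K) → S ≤ K
  el : ∀ a ∈ T, a ∈ A ∧ a ^ r = 1 ∧ A ≤ zpowers a ⊔ zpowers b ∧
    S ⊓ 𝐂(zpowers a) ≤ 𝐂((W ⊓ 𝐂(zpowers a) : Subgroup Γ))

variable {W S A : Subgroup Γ} {b : Γ} {T : Set Γ}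

theorem LH.cW (h : LH p q r W S A b T) : CoprimeAct A W :=
  coprimeAct_of_isPGroup_left h.hA (not_dvd_of_isPGroup_ne h.rp h.hW) h.AW

theorem LH.cS (h : LH p q r W S A b T) : CoprimeAct A S :=
  coprimeAct_of_isPGroup_left h.hA (not_dvd_of_isPGroup_ne h.rq h.hS) h.AS

theorem LH.cSW (h : LH p q r W S A b T) : CoprimeAct S W :=
  coprimeAct_of_isPGroup_left h.hS (not_dvd_of_isPGroup_ne h.pq.symm h.hW) h.SW

theorem LH.sub (h : LH p q r W S A b T) {N : Subgroup Γ} (hN : N ≤ W) (h1 : S ≤ 𝐍(N))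
    (h2 : A ≤ 𝐍(N)) : LH p q r N S A b T :=
  { h with
    hW := h.hW.to_le hN, SW := h1, AW := h2, fix := (inf_le_inf_right _ hN).trans h.fix
    el := fun a ha => ⟨(h.el a ha).1, (h.el a ha).2.1, (h.el a ha).2.2.1,
      (h.el a ha).2.2.2.trans (cent_anti (inf_le_inf_right _ hN))⟩ }

theorem LH.bar (h : LH p q r W S A b T) {X : Subgroup Γ} (hW : W ≤ X) (hS : S ≤ X) (hA : A ≤ X)
    {Q : Type u} [Group Q] [Finite Q] (f : X →* Q) :
    LH p q r (Core.bar f W) (Core.bar f S) (Core.bar f A) (f ⟨b, hA h.bA⟩)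
      {y | ∃ a, ∃ ha : a ∈ X, a ∈ T ∧ f ⟨a, ha⟩ = y} := by
  have hz : ∀ a (ha : a ∈ X), Core.bar f (zpowers a) = zpowers (f ⟨a, ha⟩) := fun a ha =>
    bar_zpowers f ⟨a, ha⟩
  have hpow : ∀ a (ha : a ∈ X), a ^ r = 1 → f ⟨a, ha⟩ ^ r = 1 := fun a ha e => by
    rw [← map_pow]; exact (congrArg f (Subtype.ext e)).trans (map_one f)
  have hc : ∀ a (ha : a ∈ A) {U : Subgroup Γ}, U ≤ X → CoprimeAct A U →
      Core.bar f U ⊓ 𝐂(zpowers (f ⟨a, hA ha⟩)) ≤ Core.bar f (U ⊓ 𝐂(zpowers a)) :=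
    fun a ha U hU hc => by
      rw [← hz]
      exact bar_inf_cent_le f (zpowers_le.mpr (hA ha)) hU (hc.mono_left (zpowers_le.mpr ha))
  refine ⟨h.pq, h.rp, h.rq, isPGroup_bar f h.hW, isPGroup_bar f h.hS, isPGroup_bar f h.hA,
    bar_le_centralizer f h.ab, bar_le_normalizer f h.SW, bar_le_normalizer f h.AW,
    bar_le_normalizer f h.AS, mem_bar_of_mem f h.bA, hpow _ _ h.pow,
    by rw [← hz, ← bar_commutator f hS (zpowers_le.mpr (hA h.bA)), h.eq],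
    (hc b h.bA hW h.cW).trans (bar_le_centralizer f h.fix), fun e => ?_, fun e => ?_, ?_⟩
  · refine le_bot_iff.mp ((bar_inf_cent_le f hA hS h.cS).trans ?_)
    rw [h.two e, bar_bot]
  · refine (h.gen e).imp (fun e => hz b (hA h.bA) ▸ bar_mono f e) fun e K hK => ?_
    refine (bar_le_iff f hS).mpr (e _ fun a ha => (bar_le_iff f (inf_le_left.trans hS)).mp ?_)
    refine le_trans ?_ (hK _ ⟨a, hA (h.el a ha).1, ha, rfl⟩)
    rw [← hz]
    exact le_inf (bar_mono f inf_le_left) (bar_le_centralizer f inf_le_right)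
  · rintro _ ⟨a, ha, haT, rfl⟩
    obtain ⟨h1, h2, h3, h4⟩ := h.el a haT
    refine ⟨mem_bar_of_mem f h1, hpow _ _ h2, ?_, ?_⟩
    · rw [← hz, ← hz, ← bar_sup f (zpowers_le.mpr ha) (zpowers_le.mpr (hA h.bA))]
      exact bar_mono f h3
    · exact (hc a h1 hS h.cS).trans
        ((bar_le_centralizer f h4).trans (cent_anti (hc a h1 hW h.cW)))

theorem LH.base (h : LH p q r W S A b T) (hab : IsAb p W)
    (hmin : ∀ N ≤ W, S ≤ 𝐍(N) → A ≤ 𝐍(N) → N = ⊥ ∨ N = W) (hf : S ⊓ 𝐂(W) = ⊥) : W ≤ 𝐂(S) := by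
  rcases hmin (W ⊓ 𝐂(S)) inf_le_left (le_normalizer_inf h.SW (le_normalizer_centralizer le_normalizer))
    (le_normalizer_inf h.AW (le_normalizer_centralizer h.AS)) with e | e
  swap
  · exact e.ge.trans inf_le_right
  have hL : Lin p r W S b := ⟨⟨hab, h.pow, h.AW h.bA, fun v hv c => mem_bot.mp (e.le ⟨hv, h.fix ⟨hv, by
    rw [centralizer_zpowers]; exact mem_centralizer_singleton_iff.mpr c.symm⟩⟩), h.SW, h.AS h.bA,
    not_dvd_of_isPGroup_ne h.rq h.hS⟩, hf⟩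
  suffices S = ⊥ by rw [this, cent_bot]; exact le_top
  by_cases h2 : q = 2
  swap
  · rw [← h.eq, comm_eq_bot_iff, ← mem_cent_iff_le]; exact hL.loc_odd h.pq h2 h.hS
  by_contra h0
  have hAZ : A ≤ 𝐍((S ⊓ 𝐂(S) : Subgroup Γ)) := le_normalizer_inf h.AS (le_normalizer_centralizer h.AS)
  have hZab : S ⊓ 𝐂(S) ≤ 𝐂((S ⊓ 𝐂(S) : Subgroup Γ)) := inf_le_right.trans (cent_anti inf_le_left)
  have hZb : S ⊓ 𝐂(S) ≤ 𝐂(zpowers b) := mem_cent_iff_le.mp ((hL.mono inf_le_left (hAZ h.bA)).loc_ab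
    (not_dvd_of_isPGroup_ne h.pq (h.hS.to_le inf_le_left)) hZab)
  refine Zc_ne_bot h.hS.isNilpotent h0 (?_ : S ⊓ 𝐂(S) = ⊥)
  rcases h.gen h2 with e1 | e1
  · exact le_bot_iff.mp ((le_inf inf_le_left (hZb.trans (cent_anti e1))).trans (h.two h2).le)
  rcases hmin (W ⊓ 𝐂((S ⊓ 𝐂(S) : Subgroup Γ))) inf_le_left (le_normalizer_inf h.SW
    (le_normalizer_centralizer (le_normalizer_inf le_normalizer (le_normalizer_centralizer le_normalizer))))
    (le_normalizer_inf h.AW (le_normalizer_centralizer hAZ)) with e2 | e2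
  swap
  · exact le_bot_iff.mp ((le_inf inf_le_left (cent_comm.mp (e2.ge.trans inf_le_right))).trans hf.le)
  refine le_bot_iff.mp (inf_le_left.trans ((le_inf le_rfl (e1 _ fun a ha => ?_)).trans hf.le))
  obtain ⟨h1, h3, h4, h5⟩ := h.el a ha
  have haA : zpowers a ≤ A := zpowers_le.mpr h1
  have hZa : (S ⊓ 𝐂(S)) ⊓ 𝐂(zpowers a) = ⊥ := by
    refine le_bot_iff.mp (le_trans ?_ (h.two h2).le)
    exact le_inf (inf_le_left.trans inf_le_left) ((le_centralizer_sup inf_le_right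
      (inf_le_left.trans hZb)).trans (cent_anti h4))
  have hcZ := (h.cS.mono haA inf_le_left (haA.trans hAZ)).inf_centralizer_sup_commutator
  rw [hZa, bot_sup_eq] at hcZ
  by_cases ha1 : a = 1
  · exfalso
    refine Zc_ne_bot h.hS.isNilpotent h0 (?_ : S ⊓ 𝐂(S) = ⊥)
    rw [← hcZ, ha1, zpowers_one_eq_bot, commutator_bot_right]
  have hcard : Nat.card (zpowers a) = r := by rw [Nat.card_zpowers, orderOf_eq_prime h3 ha1]
  have hSa : S ⊓ 𝐂(zpowers a) ≤ 𝐍(W) := inf_le_left.trans h.SW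
  have hV : ⁅W, S ⊓ 𝐂(zpowers a)⁆ ≤ W := commutator_le_of_le_normalizer_left hSa
  have hcm : IsMulCommutative W := isComm_iff_le_cent.mpr hab.1
  have key := fpf_abelian (V := ⁅W, S ⊓ 𝐂(zpowers a)⁆) (T := S ⊓ 𝐂(S)) (R := zpowers a)
    (hcard ▸ hr.out) (isComm_of_le hcm hV)
    (le_normalizer_commutator (inf_le_left.trans h.SW)
      (le_normalizer_of_le_centralizer (inf_le_right.trans (cent_anti inf_le_left))))
    (le_normalizer_commutator (haA.trans h.AW)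
      (le_normalizer_inf (haA.trans h.AS) (le_normalizer_centralizer le_normalizer)))
    (haA.trans hAZ) (isComm_iff_le_cent.mpr hZab)
    (h.cS.mono haA inf_le_left (haA.trans hAZ)).coprime.symm
    ((h.cSW.coprime.coprime_dvd_left (card_dvd_of_le inf_le_left)).coprime_dvd_right
      (card_dvd_of_le hV)).symm
    (le_bot_iff.mp (le_trans (le_inf ((inf_le_inf_right _ hV).trans (cent_comm.mp h5)) inf_le_left)
      (inf_centralizer_inf_commutator_eq_bot hcm hSa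
        (h.cSW.coprime.coprime_dvd_left (card_dvd_of_le inf_le_left))).le))
  rw [hcZ] at key
  exact comm_eq_bot_iff'.mp (le_bot_iff.mp ((le_inf hV (cent_comm.mp key)).trans e2.le))

theorem LH.aux (n : ℕ) : ∀ (Γ : Type u) [Group Γ] [Finite Γ] (W S A : Subgroup Γ) (b : Γ)
    (T : Set Γ), Nat.card W + Nat.card S = n → LH p q r W S A b T → W ≤ 𝐂(S) := by
  induction n using Nat.strong_induction_on with | _ n ih =>
  intro Γ _ _ W S A b T hn h
  by_cases h0 : W = ⊥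
  · exact h0.le.trans bot_le
  by_cases hmin : ∀ N ≤ W, W ≤ 𝐍(N) → S ≤ 𝐍(N) → A ≤ 𝐍(N) → N = ⊥ ∨ N = W
  swap
  · push Not at hmin
    obtain ⟨N, h1, h2, h3, h4, h5, h6⟩ := hmin
    obtain ⟨Q, _, _, f, -, hk, -⟩ := exists_bar (N := N) (X := 𝐍(N)) le_normalizer le_rfl
    have h7 := ih (Nat.card (Core.bar f W) + Nat.card (Core.bar f S)) (by
      rw [← hn]
      refine Nat.add_lt_add_of_lt_of_le ?_ (Nat.le_of_dvd Nat.card_pos (card_bar_dvd f S))
      rw [← card_bar_mul f h2, hk, inf_eq_left.mpr h1]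
      exact lt_mul_right Nat.card_pos ((one_lt_card_iff_ne_bot _).mpr h5)) Q _ _ _ _ _ rfl
      (h.bar h2 h3 h4 f)
    rw [bar_le_centralizer_iff f h2 h3, hk] at h7
    exact h.cSW.le_centralizer (h7.trans (ih _ (by
      rw [← hn]; exact Nat.add_lt_add_right (card_lt_of_lt (lt_of_le_of_ne h1 h6)) _) Γ N S A b T rfl
      (h.sub h1 h3 h4)))
  have hab : IsAb p W := isAb_of_min (K := W ⊔ S ⊔ A) h.hW h0
    (sup_le (sup_le le_normalizer h.SW) h.AW) fun U h1 h2 h3 =>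
      (hmin U h1 ((le_sup_left.trans le_sup_left).trans h3) ((le_sup_right.trans le_sup_left).trans h3)
        (le_sup_right.trans h3)).resolve_left h2
  by_cases hf : S ⊓ 𝐂(W) = ⊥
  · exact h.base hab (fun N h1 => hmin N h1
      (le_normalizer_of_le_centralizer (hab.1.trans (centralizer_le h1)))) hf
  obtain ⟨Q, _, _, f, -, hk, -⟩ := exists_bar (N := S ⊓ 𝐂(W)) (X := 𝐍((S ⊓ 𝐂(W) : Subgroup Γ)))
    le_normalizer le_rfl
  have h2 : W ≤ 𝐍((S ⊓ 𝐂(W) : Subgroup Γ)) :=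
    le_normalizer_of_le_centralizer (cent_comm.mp inf_le_right)
  have h3 : S ≤ 𝐍((S ⊓ 𝐂(W) : Subgroup Γ)) :=
    le_normalizer_inf le_normalizer (le_normalizer_centralizer h.SW)
  have h7 := ih (Nat.card (Core.bar f W) + Nat.card (Core.bar f S)) (by
    rw [← hn]
    refine Nat.add_lt_add_of_le_of_lt (Nat.le_of_dvd Nat.card_pos (card_bar_dvd f W)) ?_
    rw [← card_bar_mul f h3, hk, inf_eq_left.mpr inf_le_left]
    exact lt_mul_right Nat.card_pos ((one_lt_card_iff_ne_bot _).mpr hf)) Q _ _ _ _ _ rfl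
    (h.bar h2 h3 (le_normalizer_inf h.AS (le_normalizer_centralizer h.AW)) f)
  rw [bar_le_centralizer_iff f h2 h3, hk] at h7
  refine comm_eq_bot_iff.mp (le_bot_iff.mp (le_trans ?_ h.cSW.inf_eq_bot.le))
  exact le_inf (h7.trans inf_le_left) (commutator_le_of_le_normalizer_left h.SW)

theorem LH.cent (h : LH p q r W S A b T) : W ≤ 𝐂(S) := LH.aux _ Γ W S A b T rfl h

end Cfsg.Agent.Lib.Pt
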