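/- S1917: unique invariant Sylow subgroups: definitions and basic facts. -/
import Cfsg.Agent.Lib.Pt.L0
import Cfsg.Agent.Lib.Sig.Main
import Cfsg.Agent.Lib.Fl.CS0
import Cfsg.Agent.Lib.Fl.Main
import Cfsg.Agent.Lib.Glaub.Burnside

set_option autoImplicit false
set_option linter.unusedSectionVars false

namespace Cfsg.Agent.Lib.Pt

open Subgroup Cfsg.Agent.Lib.Core Cfsg.Agent.Lib.Glaub Cfsg.Agent.Lib.ZJ Cfsg.Agent.FT
  Cfsg.Agent.Lib.Fl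
open scoped commutatorElement

universe u

section
variable {Γ : Type*} [Group Γ]

/-- an `A`-invariant `p`-subgroup of `G` -/
structure PI (A G : Subgroup Γ) (p : ℕ) (X : Subgroup Γ) : Prop where
  le : X ≤ G
  pg : IsPGroup p X
  inv : A ≤ 𝐍(X)

/-- the join of the `A`-invariant `p`-subgroups of `G` -/
def Sy (A G : Subgroup Γ) (p : ℕ) : Subgroup Γ := sSup {X | PI A G p X}

/-- the hypothesis of the theorem -/
structure UH (r : ℕ) (A G : Subgroup Γ) : Prop where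
  ab : IsAb r A
  inv : A ≤ 𝐍(G)
  cop : ¬ r ∣ Nat.card G
  odd : ¬ 2 ∣ Nat.card (G ⊓ 𝐂(A) : Subgroup Γ)
  pg : ∀ p : ℕ, p.Prime → IsPGroup p (Sy A G p)

/-- the same with `A` of rank at most two -/
structure U2 (r : ℕ) (A G : Subgroup Γ) : Prop extends UH r A G where
  rk : ∀ a ∈ A, ∀ b ∈ A, b ≠ 1 → a ∉ zpowers b → A ≤ zpowers a ⊔ zpowers b

/-- a minimal counterexample of rank at most two -/
structure MC (r : ℕ) (A G : Subgroup Γ) : Prop extends U2 r A G where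
  sol : ∀ H, H < G → A ≤ 𝐍(H) → Group.IsSolvable H
  simp : ∀ N, N ≤ G → G ≤ 𝐍(N) → A ≤ 𝐍(N) → N = ⊥ ∨ N = G
  ns : ¬ Group.IsSolvable G
  faith : ∀ a ∈ A, G ≤ C1 a → a = 1

/-- an invariant `p`-group `E` normalizes an invariant `q`-group `V`, and `[E, A]` does not
centralize it -/
def Arrow (A G : Subgroup Γ) (p q : ℕ) : Prop :=
  ∃ E V, PI A G p E ∧ PI A G q V ∧ E ≤ 𝐍(V) ∧ ¬ ⁅E, A⁆ ≤ 𝐂(V)

def In (A G : Subgroup Γ) (p : ℕ) (a : Γ) : Prop := ¬ Sy A G p ⊓ C1 a ≤ 𝐂(A)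

def Good (A G : Subgroup Γ) (p : ℕ) : Prop := ∀ b ∈ A, b ≠ 1 → ¬ Sy A G p ≤ C1 b

def Perm (A G : Subgroup Γ) (p q : ℕ) : Prop := IsPi {p, q} (Sy A G p ⊔ Sy A G q : Subgroup Γ)

/-- an invariant `{p, q}`-subgroup -/
structure PQ (A G : Subgroup Γ) (p q : ℕ) (L : Subgroup Γ) : Prop where
  le : L ≤ G
  pi : IsPi {p, q} L
  inv : A ≤ 𝐍(L)

/-- a maximal invariant `{p, q}`-subgroup -/
structure MX (A G : Subgroup Γ) (p q : ℕ) (L : Subgroup Γ) : Prop extends PQ A G p q L where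
  max : ∀ M, PQ A G p q M → L ≤ M → M = L

variable {A G H L M X Y : Subgroup Γ} {p q r : ℕ} {a b g : Γ}

theorem PI.le_Sy (h : PI A G p X) : X ≤ Sy A G p := le_sSup h
theorem Sy_le : Sy A G p ≤ G := sSup_le fun _ h => h.le
theorem PI.mono (h : PI A H p X) (hH : H ≤ G) : PI A G p X := ⟨h.le.trans hH, h.pg, h.inv⟩
theorem PI.sub (h : PI A G p X) (hY : Y ≤ X) (hn : A ≤ 𝐍(Y)) : PI A G p Y :=
  ⟨hY.trans h.le, h.pg.to_le hY, hn⟩
theorem PI.of_le (h : PI A G p X) (hH : X ≤ H) : PI A H p X := ⟨hH, h.pg, h.inv⟩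
theorem PI.inf (h : PI A G p X) (hn : A ≤ 𝐍(Y)) : PI A G p (X ⊓ Y) :=
  h.sub inf_le_left (le_normalizer_inf h.inv hn)
theorem PI.comm (h : PI A G p X) (hY : Y ≤ 𝐍(X)) (hn : A ≤ 𝐍(Y)) : PI A G p ⁅X, Y⁆ :=
  h.sub (comm_le_left hY) (le_normalizer_commutator h.inv hn)
theorem PI.star (h : PI A G p X) : PI A G p ⁅X, A⁆ := h.comm h.inv le_normalizer
theorem Sy_mono (hH : H ≤ G) : Sy A H p ≤ Sy A G p := sSup_le fun _ h => (h.mono hH).le_Sy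
theorem pi_OpOf (hL : L ≤ G) (hn : A ≤ 𝐍(L)) : PI A G p (OpOf p L) :=
  ⟨(OpOf_le L).trans hL, OpOf_isPGroup L, le_normalizer_OpOf hn⟩

theorem PI.cj (h : PI A G p X) (hA : g ∈ 𝐍(A)) (hG : g ∈ 𝐍(G)) : PI A G p cj(g, X) :=
  ⟨cj_le_of_le h.le hG, isPGroup_cj.mpr h.pg, cj_eq_of_mem_norm hA ▸ cj_le_norm_cj.mpr h.inv⟩

theorem PQ.cj (h : PQ A G p q X) (hA : g ∈ 𝐍(A)) (hG : g ∈ 𝐍(G)) : PQ A G p q cj(g, X) :=
  ⟨cj_le_of_le h.le hG, isPi_cj.mpr h.pi, cj_eq_of_mem_norm hA ▸ cj_le_norm_cj.mpr h.inv⟩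

theorem MX.cj (h : MX A G p q X) (hA : g ∈ 𝐍(A)) (hG : g ∈ 𝐍(G)) : MX A G p q cj(g, X) :=
  ⟨h.toPQ.cj hA hG, fun M hM hle => by
    rw [← h.max _ (hM.cj (inv_mem hA) (inv_mem hG)) (cj_le_iff_le_cj_inv.mp hle), cj_cj_inv]⟩

theorem PQ.symm (h : PQ A G p q L) : PQ A G q p L := ⟨h.le, Set.pair_comm p q ▸ h.pi, h.inv⟩
theorem MX.symm (h : MX A G p q L) : MX A G q p L := ⟨h.toPQ.symm, fun M hM => h.max M hM.symm⟩
theorem Perm.symm (h : Perm A G p q) : Perm A G q p := by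
  unfold Perm at *; rwa [sup_comm, Set.pair_comm]
theorem PQ.sub (h : PQ A G p q L) (hM : M ≤ L) (hn : A ≤ 𝐍(M)) : PQ A G p q M :=
  ⟨hM.trans h.le, h.pi.to_le hM, hn⟩
theorem PQ.inf (h : PQ A G p q L) (hn : A ≤ 𝐍(M)) : PQ A G p q (L ⊓ M) :=
  h.sub inf_le_left (le_normalizer_inf h.inv hn)
theorem PQ.sup (h : PQ A G p q L) (h' : PQ A G p q M) (hn : L ≤ 𝐍(M)) : PQ A G p q (L ⊔ M) :=
  ⟨sup_le h.le h'.le, h.pi.sup h'.pi hn, le_normalizer_sup h.inv h'.inv⟩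
theorem PQ.perm (h : PQ A G p q L) (h1 : Sy A G p ≤ L) (h2 : Sy A G q ≤ L) : Perm A G p q :=
  h.pi.to_le (sup_le h1 h2)
theorem Arrow.mono (h : Arrow A H p q) (hH : H ≤ G) : Arrow A G p q :=
  let ⟨E, V, a, b, c, d⟩ := h; ⟨E, V, a.mono hH, b.mono hH, c, d⟩

theorem norm_C1 (hA : A ≤ 𝐂(A)) (ha : a ∈ A) : A ≤ 𝐍(C1 a) :=
  (hA.trans (cent_le_C1 ha)).trans le_normalizer
theorem norm_zp (hA : A ≤ 𝐂(A)) (ha : a ∈ A) : A ≤ 𝐍(zpowers a) :=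
  (hA.trans (cent_anti (zpowers_le.mpr ha))).trans (cent_le_norm _)
theorem norm_CA : A ≤ 𝐍(𝐂(A)) := le_normalizer_centralizer le_normalizer

variable [Finite Γ]

theorem mem_norm_Sy (hA : g ∈ 𝐍(A)) (hG : g ∈ 𝐍(G)) : g ∈ 𝐍(Sy A G p) :=
  mem_normalizer_of_cj_le (by
    rw [map_le_iff_le_comap]
    exact sSup_le fun X hX => map_le_iff_le_comap.mp (PI.cj hX hA hG).le_Sy)

theorem PQ.exists_mx (h : PQ A G p q L) : ∃ M, MX A G p q M ∧ L ≤ M :=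
  let ⟨M, a, b, c⟩ := exists_maximal_subgroup (P := PQ A G p q) h; ⟨M, ⟨b, c⟩, a⟩

theorem PQ.sol (hp : p.Prime) (hq : q.Prime) (h : PQ A G p q L) : Group.IsSolvable L :=
  isSolvable_of_two_primes hp hq L fun s hs hd => by simpa using h.pi s hs hd

theorem PI.pq [Fact p.Prime] (h : PI A G p X) (q : ℕ) : PQ A G p q X :=
  ⟨h.le, isPi_of_isPGroup h.pg (by simp), h.inv⟩
theorem PI.pq' [Fact q.Prime] (h : PI A G q X) (p : ℕ) : PQ A G p q X := (h.pq p).symm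

end

variable {Γ : Type u} [Group Γ] [Finite Γ] {p q r : ℕ} [hp : Fact p.Prime] [hq : Fact q.Prime]
  [hr : Fact r.Prime] {A G H L M E V X Y : Subgroup Γ} {a b c : Γ}

namespace UH
variable (h : UH r A G)
include h

theorem pgA : IsPGroup r A := isPGroup_of_forall_pow fun x hx => ⟨1, by simpa using h.ab.2 x hx⟩
theorem commA : IsMulCommutative A := isComm_iff_le_cent.mpr h.ab.1
theorem nC1 (ha : a ∈ A) : A ≤ 𝐍(C1 a) := norm_C1 h.ab.1 ha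
theorem nzp (ha : a ∈ A) : A ≤ 𝐍(zpowers a) := norm_zp h.ab.1 ha
theorem card_zp (ha : a ∈ A) (h1 : a ≠ 1) : Nat.card (zpowers a) = r := by
  rw [Nat.card_zpowers, orderOf_eq_prime (h.ab.2 a ha) h1]
theorem zp_eq (ha : a ∈ A) (hb : b ∈ zpowers a) (h1 : b ≠ 1) : zpowers b = zpowers a := by
  by_cases h0 : a = 1
  · rw [h0, zpowers_one_eq_bot, mem_bot] at hb; exact absurd hb h1
  exact zpowers_eq_of_card_prime (h.card_zp ha h0 ▸ hr.out) hb h1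
theorem C1_eq (ha : a ∈ A) (hb : b ∈ zpowers a) (h1 : b ≠ 1) : C1 b = C1 a := by
  rw [← cent_zpowers, h.zp_eq ha hb h1, cent_zpowers]
theorem sub (hH : H ≤ G) (hn : A ≤ 𝐍(H)) : UH r A H :=
  ⟨h.ab, hn, not_dvd_card_of_le h.cop hH,
    fun e => h.odd (e.trans (card_dvd_of_le (inf_le_inf_right _ hH))),
    fun p hp => (h.pg p hp).to_le (Sy_mono hH)⟩
theorem act (hH : H ≤ G) (hn : A ≤ 𝐍(H)) : CoprimeAct A H :=
  coprimeAct_of_isPGroup_left h.pgA (not_dvd_card_of_le h.cop hH) hn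
theorem actz (ha : a ∈ A) (hH : H ≤ G) (hn : A ≤ 𝐍(H)) : CoprimeAct (zpowers a) H :=
  (h.act hH hn).mono_left (zpowers_le.mpr ha)
theorem pi (p : ℕ) [hp : Fact p.Prime] : PI A G p (Sy A G p) :=
  ⟨Sy_le, h.pg p hp.out, fun _ hg => mem_norm_Sy (le_normalizer hg) (h.inv hg)⟩
theorem syl (p : ℕ) [hp : Fact p.Prime] : IsSyl p (Sy A G p) G := by
  obtain ⟨P, h1, h2⟩ := (h.act le_rfl h.inv).exists_isSyl p
  rwa [h1.eq_of_le (h.pi p).pg (PI.le_Sy ⟨h1.le, h1.isPGroup, h2⟩) Sy_le]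
theorem Sy_sub (hH : H ≤ G) (hn : A ≤ 𝐍(H)) : Sy A H p = Sy A G p ⊓ H :=
  le_antisymm (le_inf (Sy_mono hH) Sy_le) (((h.pi p).inf hn).of_le inf_le_right).le_Sy
theorem syl_inf (p : ℕ) [hp : Fact p.Prime] (hH : H ≤ G) (hn : A ≤ 𝐍(H)) :
    IsSyl p (Sy A G p ⊓ H) H := h.Sy_sub (p := p) hH hn ▸ (h.sub hH hn).syl p
omit hr h in
theorem cent_norm : G ⊓ 𝐂(A) ≤ 𝐍(Sy A G p) := fun _ hg =>
  mem_norm_Sy (cent_le_norm A hg.2) (le_normalizer hg.1)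
theorem sup_star (hH : H ≤ G) (hn : A ≤ 𝐍(H)) : H ⊓ 𝐂(A) ⊔ ⁅H, A⁆ = H :=
  (h.act hH hn).inf_centralizer_sup_commutator
theorem star_star (hH : H ≤ G) (hn : A ≤ 𝐍(H)) : ⁅⁅H, A⁆, A⁆ = ⁅H, A⁆ :=
  (h.act hH hn).commutator_commutator
/-- generation by the centralizers -/
theorem gen (nc : ¬ IsCyclic A) (hH : H ≤ G) (hn : A ≤ 𝐍(H))
    (hW : ∀ a ∈ A, a ≠ 1 → H ⊓ C1 a ≤ X) : H ≤ X :=
  le_of_centralizers h.commA nc hn (h.act hH hn).coprime hW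
theorem two_fix (hX : PI A G 2 X) : X ⊓ 𝐂(A) = ⊥ :=
  eq_bot_of_isPGroup_of_not_dvd (hX.pg.to_le inf_le_left)
    (not_dvd_card_of_le h.odd (inf_le_inf_right _ hX.le))

/-- L0 -/
theorem l0 (hpq : p ≠ q) (hE : PI A G p E) (hV : PI A G q V) (hn : E ≤ 𝐍(V)) :
    V ⊓ 𝐂(A) ≤ 𝐂(E) :=
  cent_comm.mp (Sig.cent_of_inf hE.le_Sy inf_le_left hn
    ((inf_le_inf_right _ hV.le).trans cent_norm) (Sig.pq_inf hpq (h.pi p).pg hV.pg))
/-- L0, the other way round -/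
theorem l0' (hpq : p ≠ q) (hE : PI A G p E) (hV : PI A G q V) (hn : V ≤ 𝐍(E)) :
    ⁅V, E ⊓ 𝐂(A)⁆ = ⊥ := comm_eq_bot_iff'.mpr (h.l0 hpq.symm hV hE hn)

theorem bar {Q : Type u} [Group Q] [Finite Q] (f : X →* Q) (hA : A ≤ X) (hG : G ≤ X) :
    UH r (Core.bar f A) (Core.bar f G) := by
  refine ⟨⟨bar_le_centralizer f h.ab.1, ?_⟩, bar_le_normalizer f h.inv, not_dvd_card_bar f h.cop,
    fun e => not_dvd_card_bar f h.odd (e.trans (card_dvd_of_le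
      (bar_inf_cent_le f hA hG (h.act le_rfl h.inv)))), fun p hp => ?_⟩
  · rintro _ ⟨x, hx, rfl⟩
    rw [← map_pow]; exact (congrArg f (Subtype.ext (h.ab.2 x hx))).trans (map_one f)
  haveI := Fact.mk hp
  refine (isPGroup_bar f (h.pg p hp)).to_le (sSup_le fun Y hY => ?_)
  have hn : A ≤ 𝐍((unbar f Y ⊓ G : Subgroup Γ)) := le_normalizer_inf
    (((bar_le_iff f hA).mp hY.inv).trans (unbar_normalizer_le f Y)) h.inv
  have h1 := (h.syl_inf p inf_le_right hn).bar f (inf_le_right.trans hG)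
  rw [bar_unbar_inf, inf_eq_left.mpr hY.le] at h1
  exact (h1.eq_of_le hY.pg h1.le le_rfl).le.trans (bar_mono f inf_le_left)

/-- the invariant Hall subgroup of a solvable invariant subgroup -/
theorem hall (hpq : p ≠ q) (hH : H ≤ G) (hn : A ≤ 𝐍(H)) (hs : Group.IsSolvable H) :
    ∃ J, PQ A G p q J ∧ J ≤ H ∧ ∀ Y, PQ A G p q Y → Y ≤ H → Y ≤ J := by
  obtain ⟨J, h1, h2⟩ := coprime_Hall_exists {p, q} hn (h.act hH hn).coprime.symm hs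
  refine ⟨J, ⟨h1.le.trans hH, h1.isPi, h2⟩, h1.le, fun Y hY hYH => ?_⟩
  obtain ⟨J', a1, a2, a3⟩ := coprime_Hall_subset hn (h.act hH hn).coprime.symm hs hYH hY.pi hY.inv
  have key : ∀ s, [Fact s.Prime] → s ∈ ({p, q} : Set ℕ) → ∀ K, IsHall {p, q} K H → A ≤ 𝐍(K) →
      Sy A G s ⊓ K = Sy A G s ⊓ H := fun s _ hs K hK hn' =>
    ((hK.isSyl hs (h.syl_inf s (hK.le.trans hH) hn')).eq_of_le ((h.pi s).pg.to_le inf_le_left)
      (inf_le_inf_left _ hK.le) inf_le_right).symm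
  refine a3.trans ?_
  have s1 := h.syl_inf p (a1.le.trans hH) a2
  have s2 := h.syl_inf q (a1.le.trans hH) a2
  rw [← sup_eq_of_coprime_relIndex (M := J') s1.le s2.le (Nat.coprime_of_dvd fun s hs d1 d2 => by
    rcases a1.isPi s hs (d1.trans (relIndex_dvd_card' _ _)) with rfl | rfl
    exacts [s1.not_dvd d1, s2.not_dvd d2]), key p (by simp) J' a1 a2, key q (by simp) J' a1 a2,
    ← key p (by simp) J h1 h2, ← key q (by simp) J h1 h2]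
  exact sup_le inf_le_right inf_le_right

/-- an invariant `{p, q}`-group is the product of its invariant Sylow subgroups -/
theorem prod (hL : PQ A G p q L) : IsProd (Sy A G p ⊓ L) (Sy A G q ⊓ L) L := by
  have s1 := h.syl_inf p hL.le hL.inv
  have s2 := h.syl_inf q hL.le hL.inv
  exact isProd_of_coprime_relIndex s1.le s2.le (Nat.coprime_of_dvd fun s hs d1 d2 => by
    rcases hL.pi s hs (d1.trans (relIndex_dvd_card' _ _)) with rfl | rfl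
    exacts [s1.not_dvd d1, s2.not_dvd d2])

end UH

theorem PI.bar (h : PI A G p Y) {Q : Type u} [Group Q] (f : X →* Q) :
    PI (Core.bar f A) (Core.bar f G) p (Core.bar f Y) :=
  ⟨bar_mono f h.le, isPGroup_bar f h.pg, bar_le_normalizer f h.inv⟩

namespace U2
variable (h : U2 r A G)
include h

theorem sub (hH : H ≤ G) (hn : A ≤ 𝐍(H)) : U2 r A H := ⟨h.toUH.sub hH hn, h.rk⟩

theorem bar {Q : Type u} [Group Q] [Finite Q] (f : X →* Q) (hA : A ≤ X) (hG : G ≤ X) :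
    U2 r (Core.bar f A) (Core.bar f G) := by
  refine ⟨h.toUH.bar f hA hG, ?_⟩
  rintro _ ⟨a, ha, rfl⟩ _ ⟨b, hb, rfl⟩ h1 h2
  rw [← bar_zpowers, ← bar_zpowers, ← bar_sup f (zpowers_le.mpr a.2) (zpowers_le.mpr b.2)]
  refine bar_mono f (h.rk a ha b hb (fun e => h1 ?_) fun e => h2 ?_)
  · rw [show b = 1 from Subtype.ext e, map_one]
  · rw [← bar_zpowers]; exact mem_bar_of_mem f e

theorem cent_of (ha : a ∈ A) (hb : b ∈ A) (h1 : b ≠ 1) (hab : a ∉ zpowers b) :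
    C1 a ⊓ C1 b ≤ 𝐂(A) :=
  le_cent_of_le (le_centralizer_sup (inf_le_left.trans (cent_zpowers a).ge)
    (inf_le_right.trans (cent_zpowers b).ge)) (h.rk a ha b hb h1 hab)

/-- `[X, A] = [X, a]` for `X ≤ C(b)` -/
theorem star_eq (ha : a ∈ A) (hb : b ∈ A) (h1 : b ≠ 1) (hab : a ∉ zpowers b) (hX : X ≤ C1 b) :
    ⁅X, A⁆ = ⁅X, zpowers a⁆ := by
  refine le_antisymm ((commutator_mono le_rfl (h.rk a ha b hb h1 hab)).trans ?_)
    (commutator_mono le_rfl (zpowers_le.mpr ha))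
  have hc : zpowers b ≤ 𝐂(X) := cent_comm.mp (hX.trans (cent_zpowers b).ge)
  rw [commutator_comm, comm_sup_cent hc (le_normalizer_commutator
    ((zpowers_le.mpr hb).trans (h.nzp ha)) (hc.trans (cent_le_norm X))), commutator_comm]

theorem not_mem_symm (ha : a ∈ A) (h1 : b ≠ 1) (hab : a ∉ zpowers b) : b ∉ zpowers a := fun e =>
  hab (h.zp_eq ha e h1 ▸ mem_zpowers a)

omit hr h in
theorem ne_one (hab : a ∉ zpowers b) : a ≠ 1 := fun e => hab (e ▸ one_mem _)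

omit hr h in
theorem second (nc : ¬ IsCyclic A) (hb : b ∈ A) : ∃ a ∈ A, a ∉ zpowers b := by
  by_contra hh
  push Not at hh
  exact nc (FT.isCyclic_of_le (FT.isCyclic_zpowers b) hh)

theorem third (nc : ¬ IsCyclic A) (hb : b ∈ A) (hc : c ∈ A) :
    ∃ a ∈ A, a ∉ zpowers b ∧ a ∉ zpowers c := by
  by_cases h1 : c ∈ zpowers b
  · obtain ⟨a, ha, h2⟩ := second nc hb
    exact ⟨a, ha, h2, fun e => h2 (zpowers_le.mpr h1 e)⟩
  by_cases h2 : b ∈ zpowers c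
  · obtain ⟨a, ha, h3⟩ := second nc hc
    exact ⟨a, ha, fun e => h3 (zpowers_le.mpr h2 e), h3⟩
  exact ⟨b * c, mul_mem hb hc, fun e => h1 ((mul_mem_cancel_left (mem_zpowers b)).mp e),
    fun e => h2 ((mul_mem_cancel_right (mem_zpowers c)).mp e)⟩

end U2

namespace MC
variable (h : MC r A G)
include h

theorem norm_lt (hX : X ≤ G) (h0 : X ≠ ⊥) (hn : A ≤ 𝐍(X)) (hs : Group.IsSolvable X) :
    G ⊓ 𝐍(X) < G :=
  lt_of_le_of_ne inf_le_left fun e => (h.simp X hX (e.ge.trans inf_le_right) hn).elim h0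
    fun e' => h.ns (e' ▸ hs)

theorem nN (hn : A ≤ 𝐍(X)) : A ≤ 𝐍((G ⊓ 𝐍(X) : Subgroup Γ)) :=
  le_normalizer_inf h.inv (hn.trans le_normalizer)

theorem norm_sol (hX : X ≤ G) (h0 : X ≠ ⊥) (hn : A ≤ 𝐍(X)) (hs : Group.IsSolvable X) :
    Group.IsSolvable (G ⊓ 𝐍(X) : Subgroup Γ) := h.sol _ (h.norm_lt hX h0 hn hs) (h.nN hn)

theorem nGa (ha : a ∈ A) : A ≤ 𝐍((G ⊓ C1 a : Subgroup Γ)) := le_normalizer_inf h.inv (h.nC1 ha)

theorem cent_sol (ha : a ∈ A) (h1 : a ≠ 1) : Group.IsSolvable (G ⊓ C1 a : Subgroup Γ) :=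
  h.sol _ (lt_of_le_of_ne inf_le_left fun e => h1 (h.faith a ha (e.ge.trans inf_le_right)))
    (h.nGa ha)

/-- the `{p, q}`-part of a local subgroup -/
theorem hallN (hpq : p ≠ q) (hX : PQ A G p q X) (h0 : X ≠ ⊥) :
    ∃ J, PQ A G p q J ∧ J ≤ 𝐍(X) ∧ ∀ Y, PQ A G p q Y → Y ≤ 𝐍(X) → Y ≤ J := by
  obtain ⟨J, a, b, c⟩ := h.hall hpq inf_le_left (h.nN hX.inv)
    (h.norm_sol hX.le h0 hX.inv (hX.sol hp.out hq.out))
  exact ⟨J, a, b.trans inf_le_right, fun Y hY e => c Y hY (le_inf hY.le e)⟩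

/-- the `{p, q}`-part of `C_G(a)` -/
theorem hallC (hpq : p ≠ q) (ha : a ∈ A) (h1 : a ≠ 1) :
    ∃ J, PQ A G p q J ∧ J ≤ C1 a ∧ ∀ Y, PQ A G p q Y → Y ≤ C1 a → Y ≤ J := by
  obtain ⟨J, a1, b, c⟩ := h.hall hpq inf_le_left (h.nGa ha) (h.cent_sol ha h1)
  exact ⟨J, a1, b.trans inf_le_right, fun Y hY e => c Y hY (le_inf hY.le e)⟩

/-- a maximal member contains every member that normalizes a nontrivial normal subgroup of it -/
theorem le_of_norm (hpq : p ≠ q) (hL : MX A G p q L) (hX : PQ A G p q X) (h0 : X ≠ ⊥)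
    (hn : L ≤ 𝐍(X)) (hY : PQ A G p q Y) (hYX : Y ≤ 𝐍(X)) : Y ≤ L := by
  obtain ⟨J, a, -, c⟩ := h.hallN hpq hX h0
  exact hL.max J a (c L hL.toPQ hn) ▸ c Y hY hYX

end MC

end Cfsg.Agent.Lib.Pt
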