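/- S1917: local lemmas. -/
import Cfsg.Agent.Lib.Pt.Defs

set_option autoImplicit false
set_option linter.unusedSectionVars false

namespace Cfsg.Agent.Lib.Pt

open Subgroup Cfsg.Agent.Lib.Core Cfsg.Agent.Lib.Glaub Cfsg.Agent.Lib.ZJ Cfsg.Agent.FT
  Cfsg.Agent.Lib.Fl
open scoped commutatorElement

universe u

variable {Γ : Type u} [Group Γ] [Finite Γ] {p q r : ℕ} [hp : Fact p.Prime] [hq : Fact q.Prime]
  [hr : Fact r.Prime] {A G H L M N E V X Y D : Subgroup Γ} {a b c : Γ}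

theorem UH.ne_r (h : UH r A G) (hE : PI A G p E) (h0 : E ≠ ⊥) : p ≠ r := fun e =>
  h.cop (e ▸ (dvd_card_of_isPGroup_of_ne_bot hE.pg h0).trans (card_dvd_of_le hE.le))

theorem UH.nc_of (h : UH r A G) (hb : b ∈ A) (h1 : b ≠ 1) (hn : ¬ A ≤ zpowers b) :
    ¬ IsCyclic A := fun hc => by
  obtain ⟨x, rfl⟩ := isCyclic_iff_zpowers.mp hc
  exact hn (h.zp_eq (mem_zpowers x) hb h1).ge

theorem UH.pi_C1 (h : UH r A G) (hE : PI A G p E) (ha : a ∈ A) : PI A G p (E ⊓ C1 a) :=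
  hE.inf (h.nC1 ha)

theorem UH.pi_zp (h : UH r A G) (hE : PI A G p E) (ha : a ∈ A) : PI A G p ⁅E, zpowers a⁆ :=
  hE.comm (zpowers_le.mpr (hE.inv ha)) (h.nzp ha)

/-- a Frobenius group `E ⟨b⟩` -/
theorem UH.frob (h : UH r A G) (hpq : p ≠ q) (hE : PI A G p E) (hV : PI A G q V) (hn : E ≤ 𝐍(V))
    (hb : b ∈ A) (h1 : b ≠ 1) (hf : E ⊓ C1 b = ⊥) (hc : V ⊓ C1 b ≤ 𝐂(E)) : E ≤ 𝐂(V) := by
  by_cases h0 : E = ⊥
  · rw [h0]; exact bot_le
  have hz := zpowers_le.mpr (hE.inv hb)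
  have key := (Frobenius_Wielandt_fixpoint (M := V) (H6.frob_sup (H6.semiReg_of_prime
    (by rw [h.card_zp hb h1]; exact hr.out) (by rwa [cent_zpowers])) hz h0
    (FT.zpowers_ne_bot.mpr h1)) (sup_le hn (zpowers_le.mpr (hV.inv hb))) (by
      rw [← isPi_compl_primesOf_iff, sup_comm]
      exact (isPi_compl_primesOf_iff.mpr (h.actz hb hV.le hV.inv).coprime.symm).sup
        (isPi_compl_primesOf_iff.mpr (Sig.coprime_of_pgroups hV.pg hE.pg hpq.symm)) hz)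
    (isSolvable_of_isNilpotent hV.pg.isNilpotent)).1
  have e : V ⊓ 𝐂((E ⊔ zpowers b : Subgroup Γ)) = V ⊓ 𝐂(zpowers b) :=
    le_antisymm (inf_le_inf_left _ (cent_anti le_sup_right)) (le_inf inf_le_left
      (le_centralizer_sup (by rwa [cent_zpowers]) inf_le_right))
  rw [e] at key
  exact cent_comm.mp (inf_eq_left.mp (eq_of_le_of_card_eq inf_le_left
    (Nat.eq_of_mul_eq_mul_left (pow_pos (card_pos _) _) key).symm))

/-- L1: `E` invariant p-group on the invariant q-group `V`. -/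
theorem U2.l1 (h : U2 r A G) (hpq : p ≠ q) (hE : PI A G p E) (hV : PI A G q V) (hn : E ≤ 𝐍(V))
    (hb : b ∈ A) (hc : V ⊓ C1 b ≤ 𝐂((⁅E, zpowers b⁆ : Subgroup Γ))) : ⁅E, zpowers b⁆ ≤ 𝐂(V) := by
  have hD := h.pi_zp hE hb
  have eD := (h.actz hb hE.le hE.inv).commutator_commutator
  have nD : ⁅E, zpowers b⁆ ≤ 𝐍(V) := (comm_le_left (zpowers_le.mpr (hE.inv hb))).trans hn
  generalize ⁅E, zpowers b⁆ = D at *
  by_cases hD0 : D = ⊥
  · rw [hD0]; exact bot_le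
  by_cases hV0 : V = ⊥
  · rw [hV0]; exact le_cent_bot
  by_cases h2 : p = 2
  swap
  · exact cent_comm.mp (LH.cent (T := ∅) (r := r) ⟨hpq, h.ne_r hV hV0, h.ne_r hD hD0, hV.pg, hD.pg,
      h.pgA, h.ab.1, nD, hV.inv, hD.inv, hb, h.ab.2 b hb, eD, by rwa [cent_zpowers],
      fun e => absurd e h2, fun e => absurd e h2, fun _ e => e.elim⟩)
  subst h2
  have b1 : b ≠ 1 := fun e => hD0 (by rw [← eD, e, zpowers_one_eq_bot, commutator_bot_right])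
  have hf := h.two_fix hD
  by_cases hcy : A ≤ zpowers b
  · exact h.frob hpq hD hV nD hb b1 (le_bot_iff.mp ((inf_le_inf_left _
      ((cent_zpowers b).ge.trans (cent_anti hcy))).trans hf.le)) hc
  have hK : A ≤ 𝐍((D ⊓ 𝐂(V) : Subgroup Γ)) :=
    le_normalizer_inf hD.inv (le_normalizer_centralizer hV.inv)
  have h1 : D ≤ D ⊓ 𝐂(V) ⊔ D ⊓ C1 b := h.gen (h.nc_of hb b1 hcy) hD.le hD.inv fun a ha a1 => by
    by_cases hab : a ∈ zpowers b
    · rw [h.C1_eq hb hab a1]; exact le_sup_right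
    refine le_sup_of_le_left (le_inf inf_le_left (h.frob hpq (h.pi_C1 hD ha) hV
      (inf_le_left.trans nD) hb b1 (le_bot_iff.mp (le_trans ?_ hf.le))
      (hc.trans (cent_anti inf_le_left))))
    rw [inf_assoc]; exact inf_le_inf_left _ (h.cent_of ha hb b1 hab)
  have h3 : D ⊓ C1 b ≤ 𝐂(zpowers b) := inf_le_right.trans (cent_zpowers b).ge
  refine (eD.ge.trans (commutator_mono h1 le_rfl)).trans ?_
  rw [comm_sup_cent h3 (le_normalizer_commutator (inf_le_left.trans (le_normalizer_inf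
    le_normalizer (le_normalizer_centralizer nD))) (h3.trans (cent_le_norm _)))]
  exact (comm_le_left (zpowers_le.mpr (hK hb))).trans inf_le_right

/-- L1 for `E ≤ C(b)` -/
theorem U2.l1' (h : U2 r A G) (hpq : p ≠ q) (hE : PI A G p E) (hV : PI A G q V) (hn : E ≤ 𝐍(V))
    (ha : a ∈ A) (hb : b ∈ A) (h1 : b ≠ 1) (hab : a ∉ zpowers b) (hEb : E ≤ C1 b)
    (hc : V ⊓ C1 a ≤ 𝐂((⁅E, A⁆ : Subgroup Γ))) : ⁅E, A⁆ ≤ 𝐂(V) := by
  rw [h.star_eq ha hb h1 hab hEb] at hc ⊢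
  exact h.l1 hpq hE hV hn ha hc

/-- inside `C(a)` there are no arrows -/
theorem U2.cyc (h : U2 r A G) (nc : ¬ IsCyclic A) (hpq : p ≠ q) (hE : PI A G p E) (hV : PI A G q V)
    (hn : E ≤ 𝐍(V)) (ha : a ∈ A) (h1 : a ≠ 1) (hEa : E ≤ C1 a) (hVa : V ≤ C1 a) :
    ⁅E, A⁆ ≤ 𝐂(V) := by
  obtain ⟨c, hc, hca⟩ := U2.second nc ha
  refine h.l1' hpq hE hV hn hc ha h1 hca hEa (le_cent_of_le (le_trans ?_ (h.l0 hpq hE hV hn))
    (comm_le_left hE.inv))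
  exact le_inf inf_le_left ((le_inf inf_le_right (inf_le_left.trans hVa)).trans
    (h.cent_of hc ha h1 hca))

/-- L4 -/
theorem U2.l4 (h : U2 r A G) (hpq : p ≠ q) (hE : PI A G p E) (hV : PI A G q V) (hn : E ≤ 𝐍(V))
    (hc : ¬ ⁅E, A⁆ ≤ 𝐂(V)) : ¬ IsCyclic A ∧ ∃ b ∈ A, b ≠ 1 ∧ ¬ ⁅E ⊓ C1 b, A⁆ ≤ 𝐂(V) ∧
      ∀ a ∈ A, a ∉ zpowers b → ¬ V ⊓ C1 a ≤ 𝐂((⁅E ⊓ C1 b, A⁆ : Subgroup Γ)) := by
  have nc : ¬ IsCyclic A := fun hcy => by
    obtain ⟨x, rfl⟩ := isCyclic_iff_zpowers.mp hcy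
    refine hc (h.l1 hpq hE hV hn (mem_zpowers x) (le_cent_of_le ?_ (comm_le_left hE.inv)))
    rw [← cent_zpowers]; exact h.l0 hpq hE hV hn
  refine ⟨nc, ?_⟩
  by_contra hh
  have hK : A ≤ 𝐍((E ⊓ 𝐂(V) : Subgroup Γ)) :=
    le_normalizer_inf hE.inv (le_normalizer_centralizer hV.inv)
  have h1 : E ≤ E ⊓ 𝐂(V) ⊔ E ⊓ 𝐂(A) := h.gen nc hE.le hE.inv fun b hb b1 => by
    have h2 : ⁅E ⊓ C1 b, A⁆ ≤ 𝐂(V) := by
      by_contra h3
      exact hh ⟨b, hb, b1, h3, fun a ha hab h4 => h3 (h.l1' hpq (h.pi_C1 hE hb) hV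
        (inf_le_left.trans hn) ha hb b1 hab inf_le_right h4)⟩
    have hEb := h.pi_C1 hE hb
    rw [← h.sup_star hEb.le hEb.inv]
    exact sup_le (le_sup_of_le_right (inf_le_inf_right _ inf_le_left)) (le_sup_of_le_left
      (le_inf ((comm_le_left hEb.inv).trans inf_le_left) h2))
  refine hc ((commutator_mono h1 le_rfl).trans ?_)
  rw [comm_sup_cent inf_le_right (le_normalizer_commutator (inf_le_left.trans (le_normalizer_inf
    le_normalizer (le_normalizer_centralizer hn))) (inf_le_right.trans (cent_le_norm _)))]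
  exact (comm_le_left hK).trans inf_le_right

theorem U2.target (h : U2 r A G) (hpq : p ≠ q) (ha : Arrow A G p q) :
    ¬ IsCyclic A ∧ ∃ b ∈ A, b ≠ 1 ∧ ∀ a ∈ A, a ∉ zpowers b → In A G q a := by
  obtain ⟨E, V, hE, hV, hn, hc⟩ := ha
  obtain ⟨nc, b, hb, b1, -, h2⟩ := h.l4 hpq hE hV hn hc
  refine ⟨nc, b, hb, b1, fun a ha hab hi => h2 a ha hab (le_cent_of_le (le_trans ?_
    (h.l0 hpq hE hV hn)) ((comm_le_left (h.pi_C1 hE hb).inv).trans inf_le_left))⟩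
  exact le_inf inf_le_left ((inf_le_inf_right _ hV.le_Sy).trans hi)

/-- L5 -/
theorem UH.l5 (h : UH r A G) (hpq : p ≠ q) (hE : PI A G p E) (hV : PI A G q V) (hn : E ≤ 𝐍(V)) :
    ⁅V, E⁆ ≤ ⁅V, A⁆ := by
  have hW := hV.comm hn hE.inv
  have cop := Sig.coprime_of_pgroups hE.pg hV.pg hpq
  have eW := CoprimeAct.commutator_commutator
    ⟨hn, cop, Or.inl (isSolvable_of_isNilpotent hV.pg.isNilpotent)⟩
  have nW := right_le_norm_comm V E
  have hWV := comm_le_left hn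
  generalize ⁅V, E⁆ = W at *
  have h1 : W ⊓ 𝐂(A) ≤ ⁅W, W⁆ := H6.le_der_of_comm_le nW (coprime_mono cop le_rfl hWV)
    (le_sup_of_le_left (inf_le_left.trans eW.ge))
    ((comm_eq_bot_iff.mpr (h.l0 hpq hE hW nW)).le.trans bot_le)
  exact (Phi_nongen (comm_le_left hW.inv) ((h.sup_star hW.le hW.inv).ge.trans
    (sup_le_sup_right (h1.trans (der_le_PhiOf hW.pg)) _))).ge.trans (commutator_mono hWV le_rfl)

/-- Lemma R -/
theorem UH.lemR (h : UH r A G) (hs : Group.IsSolvable G)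
    (hna : ∀ t : ℕ, t.Prime → t ≠ p → ¬ Arrow A G p t) : ⁅Sy A G p, A⁆ ≤ OpOf p G := by
  obtain ⟨Q, _, _, f, -, hk, -⟩ := exists_bar (N := OpOf p G) (X := 𝐍(OpOf p G)) le_normalizer le_rfl
  have hG : G ≤ 𝐍(OpOf p G) := (OpOf_nrm p G).norm
  have hA : A ≤ 𝐍(OpOf p G) := le_normalizer_OpOf h.inv
  have hP := h.pi p
  have nU : ∀ t, unbar f (OpOf t (Core.bar f G)) ⊓ G ⊲ G := fun t => ⟨inf_le_right,
    le_normalizer_inf (le_norm_unbar f hG (OpOf_nrm t _).norm) le_normalizer⟩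
  have bU : ∀ t, Core.bar f (unbar f (OpOf t (Core.bar f G)) ⊓ G) = OpOf t (Core.bar f G) :=
    fun t => by rw [bar_unbar_inf, inf_eq_left.mpr (OpOf_le _)]
  have h0 : OpOf p (Core.bar f G) = ⊥ := by
    rw [← bU, bar_eq_bot_iff f (inf_le_right.trans hG), hk]
    exact (nU p).le_OpOf ((isPGroup_unbar f (OpOf_isPGroup _) (by rw [hk]; exact OpOf_isPGroup G)).to_le
      inf_le_left)
  have hT := hP.star
  rw [← hk, ← bar_eq_bot_iff f (hT.le.trans hG), ← le_bot_iff, ← h0]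
  refine Sig.le_OpOf_of_cent (isSolvable_bar f hs hG) (bar_mono f hT.le) (isPGroup_bar f hT.pg)
    fun t ht => ?_
  haveI := Fact.mk ht
  by_cases htp : t = p
  · rw [htp, h0]; exact le_cent_bot
  have nA : A ≤ 𝐍((unbar f (OpOf t (Core.bar f G)) ⊓ G : Subgroup Γ)) := le_normalizer_inf
    (le_norm_unbar f hA (le_normalizer_OpOf (bar_le_normalizer f h.inv))) h.inv
  have hU := h.syl_inf t inf_le_right nA
  have pU := (h.pi t).inf nA
  have hb := hU.bar f (inf_le_right.trans hG)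
  rw [bU] at hb
  replace hb := hb.eq_of_le (OpOf_isPGroup _) hb.le le_rfl
  have hN := nU t
  have bN := bU t
  generalize unbar f (OpOf t (Core.bar f G)) ⊓ G = N at *
  generalize Sy A G t ⊓ N = U at *
  have hNU : N ≤ U ⊔ OpOf p G := by
    rw [← hk, ← bar_le_bar_iff f (hN.le.trans hG) (pU.le.trans hG), bN]; exact hb.le
  have hE := hP.inf (Y := 𝐍(U)) (pU.inv.trans le_normalizer)
  have h1 : Sy A G p ≤ (Sy A G p ⊓ 𝐍(U)) ⊔ kerOf f := fun x hx => by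
    obtain ⟨n, hn, m, hm, rfl⟩ := hU.frattini hN.norm (hP.le hx)
    obtain ⟨o, ho, u, hu, rfl⟩ := (isProd_of_norm' (pU.le.trans hG)).symm.mem n (hNU hn)
    rw [hk, mul_assoc] at *
    exact mul_mem (mem_sup_right ho) (mem_sup_left ⟨(mul_mem_cancel_left
      (OpOf_le_of_isSyl (h.syl p) ho)).mp hx, mul_mem (le_normalizer hu) hm⟩)
  have h2 : ⁅Sy A G p ⊓ 𝐍(U), A⁆ ≤ 𝐂(U) := by
    by_contra h3; exact hna t ht htp ⟨_, _, hE, pU, inf_le_right, h3⟩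
  rw [hb, bar_commutator f (hP.le.trans hG) hA]
  refine le_trans ?_ (bar_le_centralizer f h2)
  rw [bar_commutator f (hE.le.trans hG) hA]
  exact commutator_mono ((bar_le_bar_iff f (hP.le.trans hG) (hE.le.trans hG)).mpr h1) le_rfl

theorem MC.star_le (h : MC r A G) (nc : ¬ IsCyclic A) (ha : a ∈ A) (h1 : a ≠ 1) :
    ⁅Sy A G p ⊓ C1 a, A⁆ ≤ OpOf p (G ⊓ C1 a) := by
  have h2 := h.toU2.sub inf_le_left (h.nGa ha)
  have key := h2.lemR (p := p) (h.cent_sol ha h1) fun t ht htp ⟨E, V, hE, hV, hn, hc⟩ =>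
    haveI := Fact.mk ht
    hc (h2.cyc nc htp.symm hE hV hn ha h1 (hE.le.trans inf_le_right) (hV.le.trans inf_le_right))
  rwa [h.Sy_sub inf_le_left (h.nGa ha), ← inf_assoc, inf_eq_left.mpr Sy_le] at key

theorem MC.star_cent (h : MC r A G) (nc : ¬ IsCyclic A) (hpq : p ≠ q) (ha : a ∈ A) (h1 : a ≠ 1) :
    ⁅Sy A G p ⊓ C1 a, A⁆ ≤ 𝐂((⁅Sy A G q ⊓ C1 a, A⁆ : Subgroup Γ)) :=
  le_cent_of_le ((h.star_le nc ha h1).trans (OpOf_le_centralizer_OpOf hpq _)) (h.star_le nc ha h1)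

end Cfsg.Agent.Lib.Pt
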