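/- S1917: Bender's uniqueness lemmas for the invariant `{p, q}`-subgroups. -/
import Cfsg.Agent.Lib.Pt.Loc

set_option autoImplicit false
set_option linter.unusedSectionVars false

namespace Cfsg.Agent.Lib.Pt

open Subgroup Cfsg.Agent.Lib.Core Cfsg.Agent.Lib.Glaub Cfsg.Agent.Lib.ZJ Cfsg.Agent.FT
  Cfsg.Agent.Lib.Fl
open scoped commutatorElement

universe u

variable {Γ : Type u} [Group Γ] [Finite Γ] {p q r : ℕ} [hp : Fact p.Prime] [hq : Fact q.Prime]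
  [hr : Fact r.Prime] {A G H L M N E V X Y D : Subgroup Γ} {a b c : Γ}

/-- the elements that stabilize the set `P Q` under right multiplication -/
def stabPQ {Γ : Type*} [Group Γ] (P Q : Subgroup Γ) : Subgroup Γ where
  carrier := {g | ∀ x, (∃ u ∈ P, ∃ v ∈ Q, u * v = x) ↔ ∃ u ∈ P, ∃ v ∈ Q, u * v = x * g}
  one_mem' := fun x => by rw [mul_one]
  mul_mem' := fun {g k} hg hk x => by rw [hg x, hk (x * g), mul_assoc]
  inv_mem' := fun {g} hg x => by rw [hg (x * g⁻¹), inv_mul_cancel_right]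

/-- the largest invariant `{p, q}`-subgroup over `Q` -/
theorem UH.exK (h : UH r A G) (hpq : p ≠ q) :
    ∃ K, MX A G p q K ∧ Sy A G q ≤ K ∧ ∀ L, PQ A G p q L → Sy A G q ≤ L → L ≤ K := by
  let K : Subgroup Γ := sSup {L | PQ A G p q L ∧ Sy A G q ≤ L}
  have hQ : Sy A G q ≤ K := le_sSup ⟨(h.pi q).pq' p, le_rfl⟩
  have h1 : K ≤ stabPQ (Sy A G p) (Sy A G q) := sSup_le fun L ⟨hL, hQL⟩ => by
    have key : ∀ g ∈ L, ∀ x, (∃ u ∈ Sy A G p, ∃ v ∈ Sy A G q, u * v = x) →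
        ∃ u ∈ Sy A G p, ∃ v ∈ Sy A G q, u * v = x * g := by
      rintro g hg _ ⟨u, hu, v, hv, rfl⟩
      obtain ⟨u', hu', v', hv', e⟩ := (h.prod hL).mem (v * g) (mul_mem (hQL hv) hg)
      exact ⟨u * u', mul_mem hu hu'.1, v', hv'.1, by rw [mul_assoc, e, mul_assoc]⟩
    exact fun g hg x => ⟨key g hg x, fun e => by
      simpa using key g⁻¹ (inv_mem hg) _ e⟩
  have h2 : IsProd (Sy A G p ⊓ K) (Sy A G q) K := ⟨inf_le_right, hQ, fun m hm => by
    obtain ⟨u, hu, v, hv, e⟩ := (h1 hm 1).mp ⟨1, one_mem _, 1, one_mem _, mul_one 1⟩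
    rw [one_mul] at e
    exact ⟨u, ⟨hu, (mul_mem_cancel_right (hQ hv)).mp (e ▸ hm)⟩, v, hv, e⟩⟩
  refine ⟨K, ⟨⟨sSup_le fun L hL => hL.1.le, h2.isPi (((h.pi p).pq q).pi.to_le inf_le_left)
    ((h.pi q).pq' p).pi, Sig.le_norm_sSup fun L hL => hL.1.inv⟩, fun M hM hle => ?_⟩, hQ,
    fun L hL hQL => le_sSup ⟨hL, hQL⟩⟩
  exact le_antisymm (le_sSup ⟨hM, hQ.trans hle⟩) hle

omit hr in
theorem PQ.tau {s : ℕ} [hs : Fact s.Prime] (hN : PQ A G p q N) (h0 : OpOf s N ≠ ⊥) :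
    s = p ∨ s = q := by
  simpa using hN.pi s hs.out ((dvd_card_of_isPGroup_of_ne_bot (OpOf_isPGroup N) h0).trans
    (card_dvd_of_le (OpOf_le N)))

omit hr in
theorem PQ.fit_le (hN : PQ A G p q N) (h1 : OpOf p N ≤ X) (h2 : OpOf q N ≤ X) :
    fittingOf N ≤ X := fittingOf_le_of_forall_OpOf fun s hs => by
  haveI := Fact.mk hs
  by_cases h0 : OpOf s N = ⊥
  · rw [h0]; exact bot_le
  rcases hN.tau h0 with rfl | rfl
  exacts [h1, h2]

omit hr hp hq in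
theorem PQ.fitting (hN : PQ A G p q N) : PQ A G p q (fittingOf N) :=
  hN.sub (fittingOf_le N) (le_normalizer_fittingOf hN.inv)

theorem MC.loc (h : MC r A G) (hpq : p ≠ q) (hL : MX A G p q L) (hN : PQ A G p q N) :
    Sig.Loc L N := fun _ h1 h2 h3 =>
  have hA := (hL.inv.trans h3)
  h.le_of_norm hpq hL (hL.toPQ.sub h1 hA) h2 (le_normalizer.trans h3)
    (hN.inf (hA.trans le_normalizer)) inf_le_right

theorem MC.uq_max (h : MC r A G) (hpq : p ≠ q) (hL : MX A G p q L) (h1 : OpOf p L ≠ ⊥)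
    (h2 : OpOf q L ≠ ⊥) (hN : MX A G p q N) (ha : Sig.Arr L N) : L = N :=
  have sN := hN.toPQ.sol hp.out hq.out
  have l1 := h.loc hpq hL hN.toPQ
  ha.b4 (Sig.arr_of_le (hN.toPQ.fit_le (ha.b3 l1 sN h1 h2 hpq.symm) (ha.b3 l1 sN h2 h1 hpq))) l1
    (h.loc hpq hN hL.toPQ) (hL.toPQ.sol hp.out hq.out) sN h1 h2 hpq.symm

/-- B' -/
theorem MC.uq0 (h : MC r A G) (hpq : p ≠ q) (hL : MX A G p q L) (h1 : OpOf p L ≠ ⊥)
    (h2 : OpOf q L ≠ ⊥) (hX : X ≤ fittingOf L) (h0 : X ≠ ⊥) (hA : A ≤ 𝐍(X)) (hY : PQ A G p q Y)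
    (hn : Y ≤ 𝐍(X)) : Y ≤ L := by
  have mX := hL.toPQ.fitting.sub hX hA
  obtain ⟨V, hV, -, b1⟩ := h.hallN hpq mX h0
  obtain ⟨N, hN, b2⟩ := hV.exists_mx
  rw [h.uq_max hpq hL h1 h2 hN (Sig.arr_of_cent hX ((b1 X mX le_normalizer).trans b2)
    ((b1 _ (hL.toPQ.fitting.inf (le_normalizer_centralizer hA))
      (inf_le_right.trans (cent_le_norm X))).trans b2))]
  exact (b1 Y hY hn).trans b2

theorem MC.pq (h : MC r A G) (hpq : p ≠ q) (hL : MX A G p q L) (hN : PQ A G p q N)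
    (hv : OpOf p L ⊓ N ≠ ⊥) (hw : OpOf q L ⊓ N ≠ ⊥) : OpOf p N ≤ L := by
  have n1 := ne_bot_of_le inf_le_left hv
  have n2 := ne_bot_of_le inf_le_left hw
  have mV := (pi_OpOf (p := p) hL.le hL.inv).inf hN.inv
  have mW := (pi_OpOf (p := q) hL.le hL.inv).inf hN.inv
  have mP := (pi_OpOf (p := p) hN.le hN.inv).pq q
  have h1 := h.uq0 hpq hL n1 n2 (inf_le_left.trans (OpOf_le_fittingOf L)) hv mV.inv
    (mP.inf (le_normalizer_centralizer mV.inv)) (inf_le_right.trans (cent_le_norm _))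
  have h2 := thompson_A_times_B (OpOf_isPGroup N) ((OpOf_isPGroup L).to_le inf_le_left)
    (not_dvd_card_of_isPGroup ((OpOf_isPGroup L).to_le inf_le_left) hpq)
    ((OpOf_nrm p N).le_norm inf_le_right) ((OpOf_nrm p N).le_norm inf_le_right)
    (le_cent_of_le (inf_le_left.trans (OpOf_le_centralizer_OpOf hpq L)) inf_le_left)
    (Sig.cent_of_inf inf_le_left inf_le_left ((OpOf_nrm q L).le_norm h1)
      ((OpOf_nrm p N).le_norm inf_le_right) (Sig.pq_inf hpq (OpOf_isPGroup N) (OpOf_isPGroup L)))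
  exact h.uq0 hpq hL n1 n2 (inf_le_left.trans (OpOf_le_fittingOf L)) hw mW.inv mP
    (h2.trans (cent_le_norm _))

/-- B'' -/
theorem MC.uq2 (h : MC r A G) (hpq : p ≠ q) (hL : MX A G p q L) (hN : PQ A G p q N)
    (h1 : OpOf p L ⊓ N ≠ ⊥) (h2 : OpOf q L ⊓ N ≠ ⊥) : N ≤ L := by
  obtain ⟨M, hM, b⟩ := hN.exists_mx
  have a1 := ne_bot_of_le (inf_le_inf_left _ b) h1
  have a2 := ne_bot_of_le (inf_le_inf_left _ b) h2
  have ha : Sig.Arr M L := Sig.arr_of_le (hM.toPQ.fit_le (h.pq hpq hL hM.toPQ a1 a2)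
    (h.pq hpq.symm hL.symm hM.toPQ.symm a2 a1))
  have sM := hM.toPQ.sol hp.out hq.out
  exact h.uq_max hpq hM (ha.b1' sM a1) (ha.b1' sM a2) hL ha ▸ b

/-- (M) -/
theorem MC.mixed (h : MC r A G) (nc : ¬ IsCyclic A) (hpq : p ≠ q) (hg : Good A G q)
    (hL : MX A G p q L) (h1 : OpOf p L ≠ ⊥) (h2 : OpOf q L ≠ ⊥) : Sy A G q ≤ L := by
  by_contra hc
  have mQ := h.pi q
  have mP := h.pi p
  have mW := pi_OpOf (p := p) hL.le hL.inv
  have mO := pi_OpOf (p := q) hL.le hL.inv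
  have mY := mQ.inf hL.inv
  have oY : OpOf q L ≤ Sy A G q ⊓ L := le_inf mO.le_Sy (OpOf_le L)
  have yW : Sy A G q ⊓ L ≤ 𝐍(OpOf p L) := (OpOf_nrm p L).le_norm inf_le_right
  have u2 : ∀ N, PQ A G p q N → OpOf p L ≤ N → Sy A G q ⊓ L ≤ N → N ≤ L := fun N hN a1 a2 =>
    h.uq2 hpq hL hN (ne_bot_of_le (le_inf le_rfl a1) h1)
      (ne_bot_of_le (le_inf le_rfl (oY.trans a2)) h2)
  have s1 : OpOf p L ⊓ 𝐂(A) = ⊥ := by
    by_contra h0
    exact hc (le_sup_right.trans (h.uq2 hpq hL (((mW.inf norm_CA).pq q).sup (mQ.pq' p)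
      ((inf_le_inf_right _ mW.le).trans UH.cent_norm))
      (ne_bot_of_le (le_inf inf_le_left le_sup_left) h0)
      (ne_bot_of_le (le_inf le_rfl (le_sup_of_le_right mO.le_Sy)) h2)))
  have m1 := mQ.inf (Y := 𝐍((Sy A G q ⊓ L : Subgroup Γ))) (mY.inv.trans le_normalizer)
  have s2 : Sy A G q ⊓ 𝐍((Sy A G q ⊓ L : Subgroup Γ)) ⊓ 𝐂(A) ≤ L := by
    refine h.le_of_norm hpq hL hL.toPQ (ne_bot_of_le (OpOf_le L) h1) le_normalizer
      ((m1.inf norm_CA).pq' p) fun x hx => ?_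
    have xA : x ∈ 𝐍(A) := cent_le_norm A hx.2
    have xG : x ∈ 𝐍(G) := le_normalizer (mQ.le hx.1.1)
    have mx := mW.cj xA xG
    have yx : Sy A G q ⊓ L ≤ 𝐍(cj(x, OpOf p L)) :=
      cj_eq_of_mem_norm hx.1.2 ▸ cj_le_norm_cj.mpr yW
    have b1 := u2 _ ((mY.pq' p).sup ((mP.sub (sup_le mW.le_Sy mx.le_Sy)
      (le_normalizer_sup mW.inv mx.inv)).pq q) (le_normalizer_sup yW yx))
      (le_sup_of_le_right le_sup_left) le_sup_left
    have b2 := u2 _ (hL.toPQ.cj (inv_mem xA) (inv_mem xG))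
      (cj_le_iff_le_cj_inv.mp ((le_sup_of_le_right le_sup_right).trans b1))
      (cj_le_iff_le_cj_inv.mp ((cj_eq_of_mem_norm hx.1.2).le.trans inf_le_right))
    exact (inv_mem_iff.mp (mem_normalizer_of_cj_le b2))
  obtain ⟨a, ha, a1, s3⟩ : ∃ a ∈ A, a ≠ 1 ∧
      ¬ Sy A G q ⊓ 𝐍((Sy A G q ⊓ L : Subgroup Γ)) ⊓ C1 a ≤ L := by
    by_contra hh
    push Not at hh
    exact (lt_inf_normalizer_of_isPGroup mQ.pg (lt_of_le_of_ne inf_le_left fun e =>
      hc (e.ge.trans inf_le_right))).not_ge (le_inf inf_le_left (h.gen nc m1.le m1.inv hh))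
  have m2 := m1.inf (h.nC1 ha)
  have s4 : OpOf p L ⊓ C1 a = ⊥ := by
    by_contra h0
    have m3 := mW.inf (h.nC1 ha)
    have e := h.sup_star m3.le m3.inv
    rw [eq_bot_iff.mpr ((inf_le_inf_right _ inf_le_left).trans s1.le), bot_sup_eq] at e
    refine s3 (h.sup_star m2.le m2.inv ▸ sup_le ((inf_le_inf_right _ inf_le_left).trans s2)
      (h.uq0 hpq hL h1 h2 (inf_le_left.trans (OpOf_le_fittingOf L)) h0 m3.inv (m2.star.pq' p) ?_))
    refine (cent_comm.mp ?_).trans (cent_le_norm _)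
    exact e.ge.trans (le_cent_of_le ((commutator_mono (inf_le_inf_right _ mW.le_Sy) le_rfl).trans
      (h.star_cent nc hpq ha a1)) (commutator_mono (inf_le_inf_right _ inf_le_left) le_rfl))
  have s5 := h.l1 hpq.symm mY mW yW ha (s4.le.trans bot_le)
  have s6 : Sy A G q ⊓ L ≤ 𝐂(zpowers a) := by
    rw [← comm_eq_bot_iff]
    by_contra h0
    have m4 := mY.comm ((zpowers_le.mpr ha).trans mY.inv) (h.nzp ha)
    obtain ⟨J, b1, -, b2⟩ := h.hallN hpq (m4.pq' p) h0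
    refine s3 ((b2 _ (m2.pq' p) ?_).trans (u2 J b1
      (b2 _ (mW.pq q) ((cent_comm.mp s5).trans (cent_le_norm _)))
      (b2 _ (mY.pq' p) (normalizer_commutator_ge_left _ _))))
    exact le_normalizer_commutator (inf_le_left.trans inf_le_right)
      (inf_le_right.trans ((cent_zpowers a).ge.trans (cent_le_norm _)))
  refine hg a ha a1 ((thompson_A_times_B mQ.pg mY.pg (not_dvd_card_of_le ?_ (zpowers_le.mpr ha))
    (inf_le_left.trans le_normalizer) ((zpowers_le.mpr ha).trans mQ.inv) s6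
    ((le_inf inf_le_left ?_).trans s6)).trans (cent_zpowers a).le)
  · refine not_dvd_card_of_isPGroup h.pgA fun e => h.cop (e ▸ ?_)
    exact (dvd_card_of_isPGroup_of_ne_bot mO.pg h2).trans (card_dvd_of_le mO.le)
  · exact h.le_of_norm hpq hL (mO.pq' p) h2 (OpOf_nrm q L).2
      ((mQ.inf (le_normalizer_centralizer mY.inv)).pq' p)
      (inf_le_right.trans ((cent_anti oY).trans (cent_le_norm _)))

end Cfsg.Agent.Lib.Pt
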