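/- S1917: a minimal counterexample has an arrow. -/
import Cfsg.Agent.Lib.Pt.Loc
import Cfsg.Agent.Lib.Invol.BaerSuzuki
import Cfsg.Agent.FT.Main

set_option autoImplicit false
set_option linter.unusedSectionVars false

namespace Cfsg.Agent.Lib.Pt

open Subgroup Cfsg.Agent.Lib.Core Cfsg.Agent.Lib.Glaub Cfsg.Agent.Lib.ZJ Cfsg.Agent.FT
  Cfsg.Agent.Lib.Fl
open scoped commutatorElement

universe u

variable {Γ : Type u} [Group Γ] [Finite Γ] {p q r : ℕ} [hp : Fact p.Prime] [hq : Fact q.Prime]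
  [hr : Fact r.Prime] {A G H L M N E V X Y D : Subgroup Γ} {a b c : Γ}

/-- there are no arrows -/
def NoArrow (A G : Subgroup Γ) : Prop := ∀ p q : ℕ, p.Prime → q.Prime → p ≠ q → ¬ Arrow A G p q

theorem MC.na_star (h : MC r A G) (na : NoArrow A G) (hM : M < G) (hn : A ≤ 𝐍(M)) (p : ℕ)
    [hp : Fact p.Prime] : ⁅Sy A G p ⊓ M, A⁆ ≤ OpOf p M := by
  rw [← h.Sy_sub hM.le hn]
  exact (h.toUH.sub hM.le hn).lemR (h.sol M hM hn) fun t ht e ha =>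
    na p t hp.out ht e.symm (ha.mono hM.le)

theorem MC.na_prod (h : MC r A G) (na : NoArrow A G) (hM : M < G) (hn : A ≤ 𝐍(M)) :
    IsProd (fittingOf M) (M ⊓ 𝐂(A)) M :=
  lemF (h.act hM.le hn) (fittingOf_le M) (le_normalizer_fittingOf hn) fun s hs =>
    haveI := Fact.mk hs
    ⟨_, h.syl_inf s hM.le hn, ((h.pi s).inf hn).inv,
      (h.na_star na hM hn s).trans (OpOf_le_fittingOf M)⟩

theorem MC.na_two (h : MC r A G) (na : NoArrow A G) (hM : M < G) (hn : A ≤ 𝐍(M)) :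
    ¬ 2 ∣ (OpOf 2 M).relIndex M := by
  have hX := (h.pi 2).inf hn
  refine (h.syl_inf 2 hM.le hn).not_dvd_relIndex ?_
  rw [← h.sup_star hX.le hX.inv, h.two_fix hX, bot_sup_eq]
  exact h.na_star na hM hn 2

/-- the normalizer of `X` acts on a central subgroup `Z ≤ X` of `P` like `C_G(A)` -/
theorem MC.na_dec (h : MC r A G) (na : NoArrow A G) {Z : Subgroup Γ} (hX : X ≤ Sy A G p)
    (h0 : X ≠ ⊥) (hn : 𝐍(Sy A G p) ≤ 𝐍(X)) (hZ : Z ≤ X) (hc : Sy A G p ≤ 𝐂(Z)) {y : Γ}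
    (hy : y ∈ G ⊓ 𝐍(X)) : ∃ z ∈ 𝐂(Z), ∃ c ∈ G ⊓ 𝐂(A), z * c = y := by
  have hP := h.pi p
  have nX := hP.inv.trans hn
  have pX := hP.pg.to_le hX
  have lt := h.norm_lt (hX.trans hP.le) h0 nX (isSolvable_of_isPGroup pX)
  have hPM : Sy A G p ≤ G ⊓ 𝐍(X) := le_inf hP.le (le_normalizer.trans hn)
  obtain ⟨z, hz, c, hc', e⟩ := (h.na_prod na lt (h.nN nX)).mem y hy
  refine ⟨z, fittingOf_le_of_forall_OpOf (fun s hs => ?_) hz, c, ⟨hc'.1.1, hc'.2⟩, e⟩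
  haveI := Fact.mk hs
  by_cases e : s = p
  · subst e
    exact (OpOf_le_of_isSyl ((h.syl s).mono hPM inf_le_left)).trans hc
  · exact (OpOf_le_centralizer_OpOf e _).trans (cent_anti (hZ.trans
      (Core.le_OpOf (hX.trans hPM) inf_le_right pX)))

omit [Finite Γ] in
theorem conj_eq_of_cent {Z : Subgroup Γ} {z c w : Γ} (hz : z ∈ 𝐂(Z)) (hc : c ∈ 𝐍(Z))
    (hw : w ∈ Z) : z * c * w * (z * c)⁻¹ = c * w * c⁻¹ := by
  have := hz _ (conj_mem_of_mem_normalizer hc hw)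
  calc z * c * w * (z * c)⁻¹ = z * (c * w * c⁻¹) * z⁻¹ := by group
    _ = _ := by rw [← this]; group

omit [Finite Γ] in
theorem mem_of_sq_mem {K : Subgroup Γ} {x : Γ} {n : ℕ} (hn : Odd n) (h1 : x ^ n = 1)
    (h2 : x * x ∈ K) : x ∈ K := by
  obtain ⟨k, rfl⟩ := hn
  have : x = ((x * x) ^ k)⁻¹ := by
    rw [eq_inv_iff_mul_eq_one, ← pow_two, ← pow_mul, ← pow_succ', h1]
  rw [this]
  exact inv_mem (pow_mem h2 k)

theorem MC.na_fn (h : MC r A G) (na : NoArrow A G) (hp2 : Odd p) (h0 : Sy A G p ≠ ⊥) :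
    ∃ Z, Z ≠ ⊥ ∧ A ≤ 𝐍(Z) ∧ Sy A G p ≤ 𝐍(Z) ∧ FN G (Sy A G p) Z := by
  have hS := h.syl p
  have hZ : Sy A G p ⊓ 𝐂(Sy A G p) ≤ 𝐂(Sy A G p ⊓ 𝐂(Sy A G p)) :=
    inf_le_right.trans (centralizer_le inf_le_left)
  have hAS : omegaC p _ hZ ≤ Sy A G p ⊓ 𝐂(Sy A G p) := fun x hx => hx.1
  have hA0 := omegaC_ne_bot hZ hS.isPGroup.to_inf_left
    (inf_centralizer_ne_bot hS.isPGroup hS.isPGroup le_normalizer h0)
  have hNA : 𝐍(Sy A G p) ≤ 𝐍(omegaC p _ hZ) :=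
    (le_normalizer_inf le_rfl (le_normalizer_centralizer le_rfl)).trans (norm_omegaC hZ)
  have hab := isAb_omegaC (p := p) hZ
  generalize omegaC p _ hZ = Z at hAS hA0 hNA hab
  have hc : Sy A G p ≤ 𝐂(Z) := cent_comm.mp (hAS.trans inf_le_right)
  have hC : G ⊓ 𝐂(A) ≤ 𝐍(Z) := UH.cent_norm.trans hNA
  refine ⟨Z, hA0, (h.pi p).inv.trans hNA, le_normalizer.trans hNA, ?_⟩
  have hJ : G ⊓ 𝐍(JT 0 (Sy A G p)) ≤ 𝐍(Z) := fun y hy => by
    obtain ⟨z, hz, c, hc', rfl⟩ := h.na_dec na (JT_le _) (JT_ne_bot (dvd_zero p) hS.isPGroup h0)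
      (normalizer_le_normalizer_JT _) (hAS.trans (center_le_JT _)) hc hy
    exact mul_mem (cent_le_norm Z hz) (hC hc')
  rcases r2 hS hab hAS hJ with hw | ⟨Z₁, B, hB, ht⟩
  · exact fn_of_wc hS hAS hw
  exfalso
  obtain ⟨a, ha, ha1⟩ := SetLike.exists_of_lt ht.lt
  obtain ⟨y, hy, e⟩ := ht.tr a ha a⁻¹ (inv_mem ha) ha1 fun e => ha1 (inv_mem_iff.mp e)
  obtain ⟨z, hz, c, hc', rfl⟩ := h.na_dec na (hAS.trans inf_le_left) hA0 hNA le_rfl hc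
    ⟨hB hy, ht.norm hy⟩
  have nc := hC hc'
  rw [conj_eq_of_cent hz nc ha, inv_inv] at e
  have e1 := conj_eq_of_cent hz nc (ht.lt.le e)
  rw [← ht.cent hy _ e, mul_inv_cancel_right] at e1
  have e2 : c * c ∈ C1 a := by
    have e3 := hab.1 (conj_mem_of_mem_normalizer nc ha) a ha
    refine mem_centralizer_singleton_iff.mpr ?_
    calc c * c * a = c * (c * a * c⁻¹ * a) * c⁻¹ * (c * a * c⁻¹)⁻¹ * (c * c) := by group
      _ = a * (c * a * c⁻¹) * (c * a * c⁻¹)⁻¹ * (c * c) := by rw [← e1, e3]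
      _ = _ := by group
  have e3 := mem_centralizer_singleton_iff.mp (mem_of_sq_mem
    (Nat.odd_iff.mpr (Nat.two_dvd_ne_zero.mp h.odd))
    (congrArg Subtype.val (pow_card_eq_one' (x := (⟨c, hc'⟩ : (G ⊓ 𝐂(A) : Subgroup Γ))))) e2)
  rw [e3, mul_inv_cancel_right] at e
  exact ha1 (mem_of_sq_mem hp2 (hab.2 a ha) e)

omit [Finite Γ] in
theorem inv_pow_odd {n x : Γ} {m : ℕ} (hm : Odd m) (h : n * x * n⁻¹ = x⁻¹) :
    n ^ m * x * (n ^ m)⁻¹ = x⁻¹ := by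
  obtain ⟨k, rfl⟩ := hm
  have h1 : Commute (n ^ 2) x := by
    have : n * x⁻¹ * n⁻¹ = x := by rw [← conj_inv, h, inv_inv]
    calc n ^ 2 * x = n * (n * x * n⁻¹) * n⁻¹ * n ^ 2 := by rw [pow_two]; group
      _ = x * n ^ 2 := by rw [h, this]
  rw [pow_succ', pow_mul, mul_assoc n, (h1.pow_left k).eq, ← h]
  group

theorem MC.exists_arrow (h : MC r A G) :
    ∃ p q : ℕ, p.Prime ∧ q.Prime ∧ p ≠ q ∧ Arrow A G p q := by
  by_contra hh
  have na : NoArrow A G := fun p q a b c d => hh ⟨p, q, a, b, c, d⟩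
  have h2 : 2 ∣ Nat.card G := by
    by_contra e
    exact h.ns (feit_thompson G (Nat.odd_iff.mpr (Nat.two_dvd_ne_zero.mp e)))
  obtain ⟨t, ht⟩ := exists_prime_orderOf_dvd_card' 2 h2
  have hO : pCore 2 G = ⊥ := (map_eq_bot_iff_of_injective _ (subtype_injective G)).mp
    ((h.simp (OpOf 2 G) (OpOf_le G) (le_normalizer_OpOf le_normalizer)
    (le_normalizer_OpOf h.inv)).resolve_right fun e =>
      h.ns (e ▸ isSolvable_of_isPGroup (OpOf_isPGroup (p := 2) G)))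
  obtain ⟨x, xp, xo, xi⟩ := Invol.exists_odd_prime_inverted t ht fun N hN N2 hm => by
    rw [mem_bot.mp (((le_pCore N2).trans hO.le) hm), orderOf_one] at ht
    omega
  obtain ⟨p, hp⟩ : ∃ p, orderOf x = p := ⟨_, rfl⟩
  rw [hp] at xp xo
  haveI := Fact.mk xp
  obtain ⟨g, hg, e⟩ := (h.syl p).exists_conj_le (isPGroup_zpowers (x := (x : Γ)) (k := 1) (by
    rw [pow_one, ← hp, ← orderOf_coe, pow_orderOf_eq_one])) (zpowers_le.mpr x.2)
  rw [MonoidHom.map_zpowers, zpowers_le] at e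
  obtain ⟨y, hy, yp, s, hs, yi⟩ : ∃ y ∈ Sy A G p, orderOf y = p ∧ ∃ s ∈ G, s * y * s⁻¹ = y⁻¹ :=
    ⟨_, e, by rw [← hp, ← orderOf_coe]; exact (MulAut.conj g).orderOf_eq _, g * t * g⁻¹,
      mul_mem (mul_mem hg t.2) (inv_mem hg), by
        have : (t : Γ) * x * (t : Γ)⁻¹ = (x : Γ)⁻¹ := congrArg Subtype.val xi
        change g * t * g⁻¹ * (g * x * g⁻¹) * (g * t * g⁻¹)⁻¹ = (g * x * g⁻¹)⁻¹
        rw [conj_inv (a := (x : Γ)), ← this]; group⟩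
  have y1 : y ≠ 1 := fun e => xp.one_lt.ne (by rw [← yp, e, orderOf_one])
  obtain ⟨Z, z0, nZ, pZ, fn⟩ := h.na_fn na xo fun e => y1 (mem_bot.mp (e.le hy))
  obtain ⟨n, hn, c, hc, rfl⟩ := fn.ctrl (zpowers y) (zpowers_le.mpr hy) s hs (by
    rw [MonoidHom.map_zpowers, zpowers_le]
    change s * y * s⁻¹ ∈ _
    rw [yi]; exact inv_mem hy)
  have ni : n * y * n⁻¹ = y⁻¹ := by
    rw [← yi, mul_assoc n c, ← hc y (mem_zpowers y)]; group
  have lt := h.norm_lt (fn.le.trans Sy_le) z0 nZ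
    (isSolvable_of_isPGroup ((h.pi p).pg.to_le fn.le))
  have odd := Nat.odd_iff.mpr (Nat.two_dvd_ne_zero.mp (h.na_two na lt (h.nN nZ)))
  have yM : y ∈ G ⊓ 𝐍(Z) := ⟨Sy_le hy, pZ hy⟩
  generalize G ⊓ 𝐍(Z) = M at hn odd yM
  have nO : M ≤ 𝐍(OpOf 2 M) := le_normalizer_OpOf le_normalizer
  haveI := (normal_subgroupOf_iff_le_normalizer (OpOf_le M)).mpr nO
  have h3 : n ^ (OpOf 2 M).relIndex M ∈ OpOf 2 M :=
    pow_index_mem (H := (OpOf 2 M).subgroupOf M) ⟨n, hn⟩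
  have h4 := inv_pow_odd odd ni
  generalize n ^ (OpOf 2 M).relIndex M = m at h3 h4
  have h5 : y ∈ OpOf 2 M := mem_of_sq_mem xo (yp ▸ pow_orderOf_eq_one y) (by
    have := mul_mem (conj_mem_of_mem_normalizer (nO yM) h3) (inv_mem h3)
    rwa [show y * m * y⁻¹ * m⁻¹ = y * (m * y * m⁻¹)⁻¹ by group, h4, inv_inv] at this)
  obtain ⟨k, hk⟩ := OpOf_isPGroup (p := 2) M ⟨y, h5⟩
  have h6 : p ∣ 2 ^ k := yp ▸ orderOf_dvd_of_pow_eq_one (congrArg Subtype.val hk)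
  rw [(Nat.prime_dvd_prime_iff_eq xp Nat.prime_two).mp (xp.dvd_of_dvd_pow h6)] at xo
  exact absurd xo (by decide)

end Cfsg.Agent.Lib.Pt
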