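/- S1917: pairwise permutable invariant Sylow subgroups. -/
import Cfsg.Agent.Lib.Pt.Defs

set_option autoImplicit false
set_option linter.unusedSectionVars false

namespace Cfsg.Agent.Lib.Pt

open Subgroup Cfsg.Agent.Lib.Core Cfsg.Agent.Lib.Glaub Cfsg.Agent.Lib.ZJ Cfsg.Agent.FT
  Cfsg.Agent.Lib.Fl
open scoped commutatorElement

universe u

variable {Γ : Type u} [Group Γ] [Finite Γ] {p q r : ℕ} [hp : Fact p.Prime] [hq : Fact q.Prime]
  [hr : Fact r.Prime] {A G H L M N E V X Y D : Subgroup Γ} {a b c : Γ} {ρ : Finset ℕ}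

/-- the join of the invariant Sylow subgroups for the primes in `ρ` -/
def MS (A G : Subgroup Γ) (ρ : Finset ℕ) : Subgroup Γ := ρ.sup (Sy A G)

theorem MS_le : MS A G ρ ≤ G := Finset.sup_le fun _ _ => Sy_le

theorem le_MS {s : ℕ} (hs : s ∈ ρ) : Sy A G s ≤ MS A G ρ := Finset.le_sup hs

theorem UH.MS_inv (h : UH r A G) (hρ : ∀ s ∈ ρ, s.Prime) : A ≤ 𝐍(MS A G ρ) :=
  Finset.sup_induction (p := fun X => A ≤ 𝐍(X)) le_norm_bot (fun _ a _ b => le_normalizer_sup a b)
    fun s hs => haveI := Fact.mk (hρ s hs); (h.pi s).inv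

theorem UH.perm_prod (h : UH r A G) (hh : Perm A G p q) :
    IsProd (Sy A G p) (Sy A G q) (Sy A G p ⊔ Sy A G q) := by
  have := h.prod (p := p) (q := q) ⟨sup_le Sy_le Sy_le, hh, le_normalizer_sup (h.pi p).inv (h.pi q).inv⟩
  rwa [inf_eq_left.mpr le_sup_left, inf_eq_left.mpr le_sup_right] at this

theorem UH.prod_MS (h : UH r A G) (hρ : ∀ s ∈ ρ, s.Prime ∧ Perm A G p s) :
    IsProd (Sy A G p) (MS A G ρ) (Sy A G p ⊔ MS A G ρ) := by
  induction ρ using Finset.induction_on with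
  | empty => exact isProd_of_norm (by rw [MS, Finset.sup_empty]; exact bot_le)
  | insert s ρ _ ih =>
    haveI := Fact.mk (hρ s (Finset.mem_insert_self _ _)).1
    have := Sig.isProd_sup (h.perm_prod (hρ s (Finset.mem_insert_self _ _)).2)
      (ih fun t ht => hρ t (Finset.mem_insert_of_mem ht))
    rwa [← sup_sup_distrib_left, MS, ← Finset.sup_insert] at this

theorem UH.isPi_MS (h : UH r A G) (hρ : ∀ s ∈ ρ, s.Prime)
    (hh : ∀ s ∈ ρ, ∀ t ∈ ρ, s ≠ t → Perm A G s t) : IsPi ρ (MS A G ρ) := by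
  induction ρ using Finset.induction_on with
  | empty => rw [MS, Finset.sup_empty]; exact isPi_bot
  | insert s ρ hs ih =>
    haveI := Fact.mk (hρ s (Finset.mem_insert_self _ _))
    have h1 := h.prod_MS (p := s) (ρ := ρ) fun t ht => ⟨hρ t (Finset.mem_insert_of_mem ht),
      hh s (Finset.mem_insert_self _ _) t (Finset.mem_insert_of_mem ht) fun e => hs (e ▸ ht)⟩
    rw [MS, Finset.sup_insert]
    exact h1.isPi (isPi_of_isPGroup (h.pi s).pg (by simp)) ((ih
      (fun t ht => hρ t (Finset.mem_insert_of_mem ht)) fun t ht u hu =>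
        hh t (Finset.mem_insert_of_mem ht) u (Finset.mem_insert_of_mem hu)).mono (by simp))

theorem MC.of_perm (h : MC r A G) (hb : b ∈ A) (b1 : b ≠ 1)
    (hh : ∀ s t : ℕ, s.Prime → t.Prime → s ≠ t → ¬ Sy A G s ≤ C1 b → ¬ Sy A G t ≤ C1 b →
      Perm A G s t) : False := by
  classical
  obtain ⟨π, hπ⟩ : ∃ π : Finset ℕ, ∀ s, s ∈ π ↔ s.Prime ∧ s ∣ Nat.card G ∧ ¬ Sy A G s ≤ C1 b :=
    ⟨(Nat.card G).primeFactors.filter fun s => ¬ Sy A G s ≤ C1 b, fun s => by
      simp [Nat.mem_primeFactors, (card_ne_zero G), and_assoc]⟩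
  have hP : ∀ ρ ⊆ π, ∀ s ∈ ρ, s.Prime := fun ρ h1 s hs => ((hπ s).mp (h1 hs)).1
  have hI : ∀ ρ ⊆ π, IsPi ρ (MS A G ρ) := fun ρ h1 => h.isPi_MS (hP ρ h1) fun s hs t ht e =>
    hh s t (hP ρ h1 s hs) (hP ρ h1 t ht) e ((hπ s).mp (h1 hs)).2.2 ((hπ t).mp (h1 ht)).2.2
  have hz := zpowers_le.mpr hb
  have nM := h.MS_inv (hP π le_rfl)
  have h1 := comm_eq_of_prod (lemF (h.actz hb le_rfl h.inv) MS_le (hz.trans nM) fun s hs => by
    haveI := Fact.mk hs
    refine ⟨_, h.syl s, hz.trans (h.pi s).inv, ?_⟩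
    by_cases h2 : s ∈ π
    · exact (comm_le_left (hz.trans (h.pi s).inv)).trans (le_MS h2)
    by_cases h3 : s ∣ Nat.card G
    · have : Sy A G s ≤ C1 b := by by_contra h4; exact h2 ((hπ s).mpr ⟨hs, h3, h4⟩)
      rw [comm_eq_bot_iff.mpr (this.trans (cent_zpowers b).ge)]; exact bot_le
    · rw [eq_bot_of_isPGroup_of_not_dvd (h.pi s).pg (not_dvd_card_of_le h3 Sy_le),
        commutator_bot_left]; exact bot_le)
  have hG : IsPi π G := by
    rcases h.simp ⁅G, zpowers b⁆ (comm_le_left (hz.trans h.inv)) (left_le_norm_comm _ _)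
      (le_normalizer_commutator h.inv (h.nzp hb)) with e | e
    · exact absurd (h.faith b hb ((comm_eq_bot_iff.mp e).trans (cent_zpowers b).le)) b1
    · exact (hI π le_rfl).to_le (e.ge.trans (h1.le.trans (comm_le_left (hz.trans nM))))
  have two : ∀ s t, s.Prime → t.Prime → ∃ u ∈ π, u ≠ s ∧ u ≠ t := fun s t hs ht => by
    by_contra h2
    push Not at h2
    exact h.ns (isSolvable_of_two_primes hs ht G fun u hu hd =>
      or_iff_not_imp_left.mpr (h2 u (hG u hu hd)))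
  have lt : ∀ s ∈ π, MS A G (π.erase s) < G := fun s hs => lt_of_le_of_ne MS_le fun e => by
    have := hI _ (π.erase_subset s) s (hP π le_rfl s hs) (by rw [e]; exact ((hπ s).mp hs).2.1)
    simp at this
  have idx : ∀ s u, u.Prime → u ∣ (MS A G (π.erase s)).relIndex G → u = s := fun s u hu hd => by
    haveI := Fact.mk hu
    by_contra h2
    exact (h.syl u).not_dvd_relIndex (le_MS (Finset.mem_erase.mpr
      ⟨h2, hG u hu (hd.trans (relIndex_dvd_card' _ _))⟩)) hd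
  obtain ⟨p, hp, -⟩ := two 2 2 Nat.prime_two Nat.prime_two
  have pp := hP π le_rfl p hp
  have nH := h.MS_inv (hP _ (π.erase_subset p))
  have h0 : MS A G (π.erase p) ≠ ⊥ := fun e => by
    obtain ⟨u, hu, hup, -⟩ := two p p pp pp
    exact ((hπ u).mp hu).2.2 ((le_MS (Finset.mem_erase.mpr ⟨hup, hu⟩)).trans (e.le.trans bot_le))
  obtain ⟨s, V, hs, v1, v2, v3, v4⟩ := exists_char_isPGroup (h.sol _ (lt p hp) nH) h0
  obtain ⟨t, ht, hts, htp⟩ := two s p hs pp
  have hV : PI A G s V := ⟨v3.trans MS_le, v1, nH.trans v4⟩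
  haveI := Fact.mk hs
  have hVK : V ≤ MS A G (π.erase t) := hV.le_Sy.trans (le_MS (Finset.mem_erase.mpr ⟨hts.symm,
    hG s hs ((dvd_card_of_isPGroup_of_ne_bot v1 v2).trans (card_dvd_of_le hV.le))⟩))
  have hpr : IsProd (MS A G (π.erase t)) (MS A G (π.erase p)) G :=
    isProd_of_coprime_relIndex MS_le MS_le (Nat.coprime_of_dvd fun u hu d1 d2 =>
      htp ((idx t u hu d1).symm.trans (idx p u hu d2)))
  have hc : ⁅V, G⁆ ≤ MS A G (π.erase t) := commutator_le.mpr fun v hv g hg => by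
    obtain ⟨k, hk, x, hx, rfl⟩ := hpr.mem g hg
    have := mul_mem (hVK hv) (mul_mem (mul_mem hk (hVK (conj_mem_of_mem_normalizer
      (v4 (le_normalizer hx)) (inv_mem hv)))) (inv_mem hk))
    convert this using 1
    rw [commutatorElement_def]; group
  have hn := right_le_norm_comm V G
  have hN : ⁅V ⊔ ⁅V, G⁆, G⁆ ≤ V ⊔ ⁅V, G⁆ := by
    rw [comm_sup_left_eq (by
      rw [sup_eq_left.mpr (comm_le_left hn)]; exact sup_le (left_le_norm_comm _ _) le_normalizer)]
    exact le_sup_of_le_right (sup_le le_rfl (comm_le_left hn))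
  rcases h.simp (V ⊔ ⁅V, G⁆) (sup_le hV.le (comm_le_of_le hV.le le_rfl))
    (le_norm_iff_comm_le_left.mpr hN) (le_normalizer_sup hV.inv
      (le_normalizer_commutator hV.inv h.inv)) with e | e
  · exact v2 (le_bot_iff.mp (le_sup_left.trans e.le))
  · exact (lt t ht).not_ge (e.ge.trans (sup_le hVK hc))

end Cfsg.Agent.Lib.Pt
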