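/- S1917: the Thompson factorization of an invariant `{p, q}`-subgroup of characteristic `q`. -/
import Cfsg.Agent.Lib.Pt.Ben

set_option autoImplicit false
set_option linter.unusedSectionVars false

namespace Cfsg.Agent.Lib.Pt

open Subgroup Cfsg.Agent.Lib.Core Cfsg.Agent.Lib.Glaub Cfsg.Agent.Lib.ZJ Cfsg.Agent.FT
  Cfsg.Agent.Lib.Fl
open scoped commutatorElement

universe u

variable {Γ : Type u} [Group Γ] [Finite Γ] {p q r : ℕ} [hp : Fact p.Prime] [hq : Fact q.Prime]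
  [hr : Fact r.Prime] {A G H L M N E V X Y D : Subgroup Γ} {a b c : Γ}

theorem UH.fac (h : UH r A G) (hpq : p ≠ q) (hL : PQ A G p q L) (h1 : OpOf p L = ⊥) :
    ∃ V, PI A G q V ∧ L ≤ 𝐍(V) ∧ V ≤ Sy A G q ⊓ L ∧ Ohm1 (Zc (Sy A G q ⊓ L)) ≤ V ∧
      JT q (Sy A G q ⊓ L) ≤ 𝐂(V) ∧ IsProd (L ⊓ 𝐂(V)) (L ⊓ 𝐍(JT q (Sy A G q ⊓ L))) L := by
  have sL := hL.sol hp.out hq.out
  have mY := (h.pi q).inf hL.inv
  have sy := h.syl_inf q hL.le hL.inv
  have nY : L ⊓ 𝐂(A) ≤ 𝐍((Sy A G q ⊓ L : Subgroup Γ)) := le_normalizer_inf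
    ((inf_le_inf_right _ hL.le).trans UH.cent_norm) (inf_le_left.trans le_normalizer)
  generalize Sy A G q ⊓ L = Y at mY sy nY ⊢
  have oY := OpOf_le_of_isSyl sy
  have c1 : Zc Y ≤ 𝐂(OpOf q L) := (Zc_le_cent _).trans (cent_anti oY)
  have fL := hL.fit_le (h1.le.trans bot_le) le_rfl
  have c2 : Sig.ncl L (Ohm1 (Zc Y)) ≤ Ohm1 (Zc (OpOf q L)) := Sig.ncl_le (Ohm1_mono (le_inf
    (((le_inf ((Zc_le _).trans sy.le) (c1.trans (cent_anti fL))).trans
      (cent_sub_Fitting sL)).trans fL) c1)) (OpOf_nrm q L).Zc.Ohm1.2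
  have eV := abelem_of_le (Ohm1_Zc_abelem (OpOf_isPGroup L)) c2
  have vY : Sig.ncl L (Ohm1 (Zc Y)) ≤ Y := c2.trans ((Ohm1_le _).trans ((Zc_le _).trans oY))
  have aV : A ≤ 𝐍(Sig.ncl L (Ohm1 (Zc Y))) := Sig.le_norm_ncl hL.inv
    (mY.inv.trans ((norm_le_norm_Zc _).trans (norm_le_norm_Ohm1 _)))
  have lV : L ≤ 𝐍(Sig.ncl L (Ohm1 (Zc Y))) := Sig.self_le_norm_ncl
  have zV : Ohm1 (Zc Y) ≤ Sig.ncl L (Ohm1 (Zc Y)) := Sig.le_ncl
  have cV : ∀ R, R ⊲ L → R ≤ 𝐂(Ohm1 (Zc Y)) → R ≤ 𝐂(Sig.ncl L (Ohm1 (Zc Y))) := fun R a1 a2 =>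
    cent_comm.mp (Sig.ncl_le (cent_comm.mp a2) (le_normalizer_centralizer a1.2))
  generalize Sig.ncl L (Ohm1 (Zc Y)) = V at eV vY aV lV zV cV
  have jY : JT q Y ≤ L := (JT_le Y).trans sy.le
  suffices hJ : JT q Y ≤ 𝐂(V) by
    have nK : L ⊓ 𝐂(V) ⊲ L :=
      ⟨inf_le_left, le_normalizer_inf le_normalizer (le_normalizer_centralizer lV)⟩
    refine ⟨V, mY.sub vY aV, lV, vY, zV, hJ, IsProd.of_norm (nK.le_norm inf_le_left)
      (le_antisymm (sup_le inf_le_left inf_le_left) (Sig.fact sy le_sup_left le_rfl nK ?_))⟩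
    exact (commutator_mono le_rfl (le_inf jY hJ)).trans (comm_le_right nK.2)
  obtain ⟨K, _, _, f, -, hk, -⟩ := exists_bar (cent_le_norm V)
    (le_normalizer_centralizer (le_refl 𝐍(V)))
  have h0 : OpOf q (Core.bar f L) = ⊥ := by
    have b1 := unbar_inf_nrm f lV (OpOf_nrm q (Core.bar f L)).2
    have b2 := cV _ b1 (inf_le_left.trans ((unbar_mono f (OpOf_le_of_isSyl (sy.bar f lV))).trans
      (by
        rw [unbar_bar f (sy.le.trans lV), hk]
        exact sup_le (cent_comm.mp ((Ohm1_le _).trans (Zc_le_cent _))) (cent_anti zV))))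
    rw [← hk, ← bar_eq_bot_iff f (inf_le_right.trans lV), bar_unbar_inf,
      inf_eq_left.mpr (OpOf_le _)] at b2
    exact b2
  have nF := unbar_inf_nrm f lV (OpOf_nrm p (Core.bar f L)).2
  have eF : Core.bar f (unbar f (OpOf p (Core.bar f L)) ⊓ L) = OpOf p (Core.bar f L) := by
    rw [bar_unbar_inf, inf_eq_left.mpr (OpOf_le _)]
  have aF : A ≤ 𝐍((unbar f (OpOf p (Core.bar f L)) ⊓ L : Subgroup Γ)) := le_normalizer_inf
    (le_norm_unbar f aV (le_normalizer_OpOf (bar_le_normalizer f hL.inv))) hL.inv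
  generalize unbar f (OpOf p (Core.bar f L)) ⊓ L = F at nF eF aF
  have fV := nF.1.trans lV
  have pF : PiMod {p} F 𝐂(V) := by
    rw [← hk, piMod_iff_bar f fV, eF]
    exact isPi_singleton_iff.mpr (OpOf_isPGroup _)
  have rF := not_dvd_card_of_le h.cop (nF.1.trans hL.le)
  have nC := le_normalizer_centralizer fV
  have key : ⁅F, JT q Y⁆ ≤ 𝐂(V) := by
    by_cases e1 : r = p
    · subst e1
      exact (comm_le_left (nF.le_norm jY)).trans (pF.le nC le_rfl (isPi_compl_iff.mpr rF))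
    by_cases e2 : r = q
    · subst e2
      rw [eq_bot_of_isPGroup_of_not_dvd (mY.pg.to_le (JT_le Y))
        (not_dvd_card_of_le h.cop (jY.trans hL.le)), commutator_bot_right]
      exact bot_le
    refine Sig.FFH.ffJ ⟨e1, e2, hpq, eV, h.pgA, pF, rF, mY.pg, aV, fV, sy.le.trans lV,
      nF.le_norm sy.le, aF, mY.inv, pF.le nC ((commutator_mono inf_le_left le_rfl).trans
        (comm_le_left (nF.le_norm sy.le))) (isPi_of_isPGroup (mY.pg.to_le (comm_le_right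
          ((inf_le_inf_right _ nF.1).trans nY))) hpq.symm)⟩ vY
  rw [← hk, ← bar_le_centralizer_iff f fV (jY.trans lV), eF] at key
  rw [← hk, ← bar_eq_bot_iff f (jY.trans lV), eq_bot_iff, ← h0]
  refine Sig.le_OpOf_of_cent (isSolvable_bar f sL lV) (bar_mono f jY)
    (isPGroup_bar f (mY.pg.to_le (JT_le Y))) fun s hs => ?_
  haveI := Fact.mk hs
  by_cases h2 : OpOf s (Core.bar f L) = ⊥
  · rw [h2]; exact le_cent_bot
  rcases isPi_bar f hL.pi s hs ((dvd_card_of_isPGroup_of_ne_bot (OpOf_isPGroup _) h2).trans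
    (card_dvd_of_le (OpOf_le _))) with rfl | rfl
  · exact cent_comm.mp key
  · exact absurd h0 h2

end Cfsg.Agent.Lib.Pt
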