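/- S1917, piece (M): `MC.mixed` is proved in `Ben.lean`; this file only collects the imports. -/
import Cfsg.Agent.Lib.Pt.Ben
import Cfsg.Agent.Lib.Pt.Loc
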