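/- S1917: there is no tower `V`, `E`, `D` of height three. -/
import Cfsg.Agent.Lib.Pt.Loc

set_option autoImplicit false
set_option linter.unusedSectionVars false

namespace Cfsg.Agent.Lib.Pt

open Subgroup Cfsg.Agent.Lib.Core Cfsg.Agent.Lib.Glaub Cfsg.Agent.Lib.ZJ Cfsg.Agent.FT
  Cfsg.Agent.Lib.Fl
open scoped commutatorElement

universe u

variable {Γ : Type u} [Group Γ] [Finite Γ] {p q r : ℕ} [hp : Fact p.Prime] [hq : Fact q.Prime]
  [hr : Fact r.Prime] {A G H L M N E V X Y D : Subgroup Γ} {a b c : Γ}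

/-- The hypotheses of `U2.tower`. -/
structure TW (p q r : ℕ) (A G V E D : Subgroup Γ) (b : Γ) : Prop extends U2 r A G where
  pq : p ≠ q
  hV : PI A G p V
  hE : PI A G q E
  hD : PI A G p D
  n1 : E ≤ 𝐍(V)
  n2 : D ≤ 𝐍(V)
  n3 : D ≤ 𝐍(E)
  eD : ⁅D, A⁆ = D
  hb : b ∈ A
  b1 : b ≠ 1
  hDb : D ≤ C1 b

namespace TW
variable (h : TW p q r A G V E D b)
include h

theorem res : TW p q r A (V ⊔ E ⊔ D) V E D b :=
  { h with
    toU2 := h.toU2.sub (sup_le (sup_le h.hV.le h.hE.le) h.hD.le)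
      (le_normalizer_sup (le_normalizer_sup h.hV.inv h.hE.inv) h.hD.inv)
    hV := h.hV.of_le (le_sup_left.trans le_sup_left)
    hE := h.hE.of_le (le_sup_right.trans le_sup_left)
    hD := h.hD.of_le le_sup_right }

theorem bar {Q : Type u} [Group Q] [Finite Q] (f : X →* Q) (hA : A ≤ X) (hG : G ≤ X)
    (hk : kerOf f ≤ G) : TW p q r (Core.bar f A) (Core.bar f G) (Core.bar f V) (Core.bar f E)
      (Core.bar f D) (f ⟨b, hA h.hb⟩) := by
  refine ⟨h.toU2.bar f hA hG, h.pq, h.hV.bar f, h.hE.bar f, h.hD.bar f, bar_le_normalizer f h.n1,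
    bar_le_normalizer f h.n2, bar_le_normalizer f h.n3,
    by rw [← bar_commutator f (h.hD.le.trans hG) hA, h.eD], mem_bar_of_mem f h.hb, fun e => h.b1 ?_, ?_⟩
  · exact mem_bot.mp ((h.act le_rfl h.inv).inf_eq_bot.le
      ⟨h.hb, hk ((mem_kerOf f (x := ⟨b, hA h.hb⟩)).mpr e)⟩)
  · rw [← cent_zpowers, ← bar_zpowers' f (hA h.hb)]
    exact bar_le_centralizer f (h.hDb.trans (cent_zpowers b).ge)

theorem copV : CoprimeAct ⁅E, D⁆ V :=
  coprimeAct_of_isPGroup_right (not_dvd_of_isPGroup_ne h.pq.symm (h.hE.pg.to_le (comm_le_left h.n3)))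
    h.hV.pg ((comm_le_left h.n3).trans h.n1)

theorem base (hf : V ⊓ 𝐂(E) = ⊥) (hK : E ⊓ 𝐂(V) = ⊥)
    (ih : ∀ F < E, A ≤ 𝐍(F) → D ≤ 𝐍(F) → ⁅F, D⁆ ≤ 𝐂(V)) : D ≤ 𝐂(E) := by
  by_contra hn
  have nc : ¬ IsCyclic A := fun e => by
    obtain ⟨x, hx⟩ := isCyclic_iff_zpowers.mp e
    have h1 := h.zp_eq (hx ▸ mem_zpowers x) (hx ▸ h.hb) h.b1
    have h2 : D = ⊥ := by
      rw [← h.eD, comm_eq_bot_iff, ← hx, ← h1, cent_zpowers]; exact h.hDb
    exact hn (h2.le.trans bot_le)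
  have hAD : A ≤ 𝐍((V ⊓ 𝐂(D) : Subgroup Γ)) :=
    le_normalizer_inf h.hV.inv (le_normalizer_centralizer h.hD.inv)
  have h1 : V ⊓ 𝐂(D) ≤ C1 b := h.gen nc (inf_le_left.trans h.hV.le) hAD fun a ha a1 => by
    by_cases hab : a ∈ zpowers b
    · exact inf_le_right.trans (h.C1_eq h.hb hab a1).le
    have hEa := h.hE.inf (h.nC1 ha)
    have hS := hEa.star
    have hSE : ⁅E ⊓ C1 a, A⁆ ≤ E := (comm_le_left hEa.inv).trans inf_le_left
    have h2 : ¬ D ≤ 𝐂(⁅E ⊓ C1 a, A⁆) := fun e => hn (by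
      have e1 := h.toU2.star_eq ha h.hb h.b1 hab h.hDb
      rw [h.eD] at e1
      have e2 := h.toU2.l1 h.pq h.hD h.hE h.n3 ha (by
        rw [← e1]
        exact (h.sup_star hEa.le hEa.inv).ge.trans (sup_le ((inf_le_inf_right _ inf_le_left).trans
          (h.l0 h.pq h.hD h.hE h.n3)) (cent_comm.mp e)))
      rwa [← e1] at e2)
    have h3 : ⁅E ⊓ C1 a, A⁆ ⊔ ⁅⁅E ⊓ C1 a, A⁆, D⁆ = E := by
      have hle : ⁅⁅E ⊓ C1 a, A⁆, D⁆ ≤ E := (commutator_mono hSE le_rfl).trans (comm_le_left h.n3)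
      by_contra e
      have e1 := ih _ (lt_of_le_of_ne (sup_le hSE hle) e)
        (le_normalizer_sup hS.inv (le_normalizer_commutator hS.inv h.hD.inv))
        (le_norm_iff_comm_le_left.mpr (commutator_sup_left_le le_sup_right
          ((comm_le_left (right_le_norm_comm _ _)).trans le_sup_right) le_normalizer))
      exact h2 (comm_eq_bot_iff'.mp (le_bot_iff.mp ((le_inf hle
        ((commutator_mono le_sup_left le_rfl).trans e1)).trans hK.le)))
    have h4 : ⁅E ⊓ C1 a, A⁆ ≤ 𝐂((V ⊓ 𝐂(D) ⊓ C1 a : Subgroup Γ)) :=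
      (h.toU2.cyc nc h.pq.symm hEa (h.hV.inf (h.nC1 ha))
        (le_normalizer_inf (inf_le_left.trans h.n1) (inf_le_right.trans le_normalizer)) ha a1
        inf_le_right inf_le_right).trans (cent_anti (inf_le_inf_right _ inf_le_left))
    have h5 : D ≤ 𝐂((V ⊓ 𝐂(D) ⊓ C1 a : Subgroup Γ)) := cent_comm.mp (inf_le_left.trans inf_le_right)
    refine le_trans (le_inf (inf_le_left.trans inf_le_left) (cent_comm.mp (h3.ge.trans
      (sup_le h4 (comm_le_of_le h4 h5))))) (hf.le.trans bot_le)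
  have hzb : zpowers b ≤ A := zpowers_le.mpr h.hb
  by_cases h0 : V = ⊥
  · rw [h0, cent_bot, inf_top_eq] at hK
    exact hn (by rw [hK, cent_bot]; exact le_top)
  have h2 : V ≤ 𝐂(zpowers b) := thompson_A_times_B h.hV.pg h.hD.pg (by
      rw [h.card_zp h.hb h.b1]
      exact fun e => not_dvd_card_of_le h.cop h.hV.le ((Nat.prime_dvd_prime_iff_eq hp.out hr.out).mp e ▸
        dvd_card_of_isPGroup_of_ne_bot h.hV.pg h0))
    h.n2 (hzb.trans h.hV.inv) (h.hDb.trans (cent_zpowers b).ge) (h1.trans (cent_zpowers b).ge)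
  have h3 : E ≤ C1 b := (comm_eq_bot_iff.mp (le_bot_iff.mp ((le_inf (comm_le_left (hzb.trans h.hE.inv))
    (Sig.comm_le_cent h.n1 (cent_comm.mp h2))).trans hK.le))).trans (cent_zpowers b).le
  exact hn (h.eD ▸ h.toU2.cyc nc h.pq h.hD h.hE h.n3 h.hb h.b1 h.hDb h3)

end TW

theorem TW.aux (n : ℕ) : ∀ (Γ : Type u) [Group Γ] [Finite Γ] (A G V E D : Subgroup Γ) (b : Γ),
    Nat.card V + Nat.card E = n → TW p q r A G V E D b → ⁅E, D⁆ ≤ 𝐂(V) := by
  induction n using Nat.strong_induction_on with | _ n ih =>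
  intro Γ _ _ A G V E D b hn h
  have hED : ⁅E, D⁆ ≤ E := comm_le_left h.n3
  have quo : ∀ N, N ≤ V ⊔ E ⊔ D → V ≤ 𝐍(N) → E ≤ 𝐍(N) → D ≤ 𝐍(N) → A ≤ 𝐍(N) →
      (N ⊓ V ≠ ⊥ ∨ N ⊓ E ≠ ⊥) → ⁅⁅E, D⁆, V⁆ ≤ N := fun N h1 h2 h3 h4 h5 h6 => by
    obtain ⟨Q, _, _, f, -, hk, -⟩ := exists_bar (N := N) (X := 𝐍(N)) le_normalizer le_rfl
    have h7 := ih (Nat.card (Core.bar f V) + Nat.card (Core.bar f E)) (by
      have e1 := Nat.le_of_dvd Nat.card_pos (card_bar_dvd f V)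
      have e2 := Nat.le_of_dvd Nat.card_pos (card_bar_dvd f E)
      rw [← hn]
      rcases h6 with e | e
      · refine Nat.add_lt_add_of_lt_of_le ?_ e2
        rw [← card_bar_mul f h2, hk]
        exact lt_mul_right Nat.card_pos ((one_lt_card_iff_ne_bot _).mpr e)
      · refine Nat.add_lt_add_of_le_of_lt e1 ?_
        rw [← card_bar_mul f h3, hk]
        exact lt_mul_right Nat.card_pos ((one_lt_card_iff_ne_bot _).mpr e)) Q _ _ _ _ _ _ rfl
      (h.res.bar f h5 (sup_le (sup_le h2 h3) h4) (hk.le.trans h1))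
    rwa [← bar_commutator f h3 h4, bar_le_centralizer_iff f (hED.trans h3) h2, hk] at h7
  by_cases h0 : V = ⊥
  · rw [h0, cent_bot]; exact le_top
  by_cases hmin : ∀ N ≤ V, V ≤ 𝐍(N) → E ≤ 𝐍(N) → D ≤ 𝐍(N) → A ≤ 𝐍(N) → N = ⊥ ∨ N = V
  swap
  · push Not at hmin
    obtain ⟨N, h1, h2, h3, h4, h5, h6, h7⟩ := hmin
    have h8 := quo N (h1.trans (le_sup_left.trans le_sup_left)) h2 h3 h4 h5
      (Or.inl (by rwa [inf_eq_left.mpr h1]))
    have h9 := ih _ (by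
      rw [← hn]; exact Nat.add_lt_add_right (card_lt_of_lt (lt_of_le_of_ne h1 h7)) _) Γ A G N E D b rfl
      { h with hV := h.hV.sub h1 h5, n1 := h3, n2 := h4 }
    exact cent_comm.mp (h.copV.le_centralizer ((commutator_comm _ _).le.trans
      (h8.trans (cent_comm.mp h9))))
  have hab : IsAb p V := isAb_of_min (K := V ⊔ E ⊔ D ⊔ A) h.hV.pg h0
    (sup_le (sup_le (sup_le le_normalizer h.n1) h.n2) h.hV.inv) fun U h1 h2 h3 =>
      (hmin U h1 (le_of_eq_of_le rfl (((le_sup_left.trans le_sup_left).trans le_sup_left).trans h3))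
        (((le_sup_right.trans le_sup_left).trans le_sup_left).trans h3)
        ((le_sup_right.trans le_sup_left).trans h3) (le_sup_right.trans h3)).resolve_left h2
  by_cases hK : E ⊓ 𝐂(V) = ⊥
  swap
  · have h8 := quo (E ⊓ 𝐂(V)) (inf_le_left.trans (le_sup_right.trans le_sup_left))
      (le_normalizer_of_le_centralizer (cent_comm.mp inf_le_right))
      (le_normalizer_inf le_normalizer (le_normalizer_centralizer h.n1))
      (le_normalizer_inf h.n3 (le_normalizer_centralizer h.n2))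
      (le_normalizer_inf h.hE.inv (le_normalizer_centralizer h.hV.inv))
      (Or.inr (by rwa [inf_eq_left.mpr inf_le_left]))
    exact comm_eq_bot_iff.mp (le_bot_iff.mp ((le_inf (h8.trans inf_le_left)
      (comm_le_right (hED.trans h.n1))).trans (Sig.pq_inf h.pq.symm h.hE.pg h.hV.pg).le))
  rcases hmin (V ⊓ 𝐂(E)) inf_le_left
    (le_normalizer_of_le_centralizer (hab.1.trans (cent_anti inf_le_left)))
    (le_normalizer_inf h.n1 (le_normalizer_centralizer le_normalizer))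
    (le_normalizer_inf h.n2 (le_normalizer_centralizer h.n3))
    (le_normalizer_inf h.hV.inv (le_normalizer_centralizer h.hE.inv)) with e | e
  · exact (comm_eq_bot_iff'.mpr (h.base e hK fun F h1 h2 h3 => ih _ (by
      rw [← hn]; exact Nat.add_lt_add_left (card_lt_of_lt h1) _) Γ A G V F D b rfl
      { h with hE := h.hE.sub h1.le h2, n1 := h1.le.trans h.n1, n3 := h3 })).le.trans bot_le
  · exact hED.trans (cent_comm.mp (e.ge.trans inf_le_right))

theorem U2.tower (h : U2 r A G) (hpq : p ≠ q) (hV : PI A G p V) (hE : PI A G q E)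
    (hD : PI A G p D) (n1 : E ≤ 𝐍(V)) (n2 : D ≤ 𝐍(V)) (n3 : D ≤ 𝐍(E)) (eD : ⁅D, A⁆ = D)
    (hb : b ∈ A) (b1 : b ≠ 1) (hDb : D ≤ C1 b) : ⁅E, D⁆ ≤ 𝐂(V) :=
  TW.aux _ Γ A G V E D b rfl ⟨h, hpq, hV, hE, hD, n1, n2, n3, eD, hb, b1, hDb⟩

end Cfsg.Agent.Lib.Pt
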