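/- S1917: a maximal `{p, q}`-subgroup with non-trivial `O_q` contains the invariant Sylow. -/
import Cfsg.Agent.Lib.Pt.Loc
import Cfsg.Agent.Lib.Pt.Ben
import Cfsg.Agent.Lib.Pt.Mixed
import Cfsg.Agent.Lib.Pt.Fac
import Cfsg.Agent.Lib.Pt.Tower

set_option autoImplicit false
set_option linter.unusedSectionVars false

namespace Cfsg.Agent.Lib.Pt

open Subgroup Cfsg.Agent.Lib.Core Cfsg.Agent.Lib.Glaub Cfsg.Agent.Lib.ZJ Cfsg.Agent.FT
  Cfsg.Agent.Lib.Fl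
open scoped commutatorElement

universe u

variable {Γ : Type u} [Group Γ] [Finite Γ] {p q r : ℕ} [hp : Fact p.Prime] [hq : Fact q.Prime]
  [hr : Fact r.Prime] {A G L : Subgroup Γ}

theorem MC.key1 (h : MC r A G) (nc : ¬ IsCyclic A) (hpq : p ≠ q) (hg : Good A G q)
    (hL : MX A G p q L) (h2 : OpOf q L ≠ ⊥) : Sy A G q ≤ L := by
  have hQ := h.pi q
  obtain ⟨K, hK0, -, hK⟩ := h.exK hpq
  induction hn : Nat.card (Sy A G q) - Nat.card (Sy A G q ⊓ L : Subgroup Γ)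
    using Nat.strong_induction_on generalizing L with | _ n ih =>
  by_cases h1 : OpOf p L = ⊥
  swap
  · exact h.mixed nc hpq hg hL h1 h2
  by_contra hQL
  have lt : Sy A G q ⊓ L < Sy A G q := inf_lt_left.mpr hQL
  have hO := pi_OpOf (p := q) hL.le hL.inv
  have hY : PI A G q (Sy A G q ⊓ L) := hQ.inf hL.inv
  have hY0 : Sy A G q ⊓ L ≠ ⊥ := ne_bot_of_le (le_inf hO.le_Sy (OpOf_le L)) h2
  have hZ : PI A G q (Zc (Sy A G q)) := hQ.sub (Zc_le _) (hQ.inv.trans (norm_le_norm_Zc _))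
  have hΩ : PI A G q (Ohm1 (Zc (Sy A G q))) := hZ.sub (Ohm1_le _) (hZ.inv.trans (norm_le_norm_Ohm1 _))
  obtain ⟨V, hV, v1, v2, v3, v4, v5⟩ := h.fac hpq hL.toPQ h1
  have hJ : PI A G q (JT q (Sy A G q ⊓ L)) := hY.sub (JT_le _)
    (hY.inv.trans (normalizer_le_normalizer_JT _))
  have z1 : Zc (Sy A G q) ≤ Zc (Sy A G q ⊓ L) := le_inf (le_inf (Zc_le _)
    (h.le_of_norm hpq hL (hO.pq' p) h2 (le_normalizer_OpOf le_normalizer) (hZ.pq' p)
      ((inf_le_right.trans (cent_anti hO.le_Sy)).trans (cent_le_norm _))))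
    (inf_le_right.trans (cent_anti inf_le_left))
  have kC : L ⊓ 𝐂(V) ≤ K := by
    obtain ⟨J, j1, -, j2⟩ := h.hallN hpq (hΩ.pq' p) (Ohm1_ne_bot (Zc_ne_bot hQ.pg.isNilpotent
      (ne_bot_of_le inf_le_left hY0)))
    refine le_trans (j2 _ (hL.toPQ.inf (le_normalizer_centralizer hV.inv)) ?_) (hK J j1 (j2 _ (hQ.pq' p)
      (le_normalizer.trans ((norm_le_norm_Zc _).trans (norm_le_norm_Ohm1 _)))))
    exact (inf_le_right.trans (cent_anti ((Ohm1_mono z1).trans v3))).trans (cent_le_norm _)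
  obtain ⟨J, j1, -, j2⟩ := h.hallN hpq (hJ.pq' p) (JT_ne_bot dvd_rfl hY.pg hY0)
  obtain ⟨L₁, m1, m2⟩ := j1.exists_mx
  have hN : PQ A G p q (L ⊓ 𝐍(JT q (Sy A G q ⊓ L))) := hL.toPQ.inf (le_normalizer_normalizer hJ.inv)
  have n1 := (j2 _ hN inf_le_right).trans m2
  refine hQL ((hK _ (hQ.pq' p) le_rfl).trans (hL.max K hK0.toPQ (v5.sup_eq.ge.trans (sup_le kC ?_))).le)
  by_cases h3 : OpOf q L₁ = ⊥
  swap
  · have l1 := lt_inf_normalizer_of_isPGroup hQ.pg lt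
    have l2 : Sy A G q ⊓ L < Sy A G q ⊓ L₁ := l1.trans_le (le_inf inf_le_left ((j2 _
      ((hQ.inf (le_normalizer_normalizer hY.inv)).pq' p)
      (inf_le_right.trans (normalizer_le_normalizer_JT _))).trans m2))
    have l3 := card_lt_of_lt l2
    have l4 := card_lt_of_lt lt
    exact n1.trans (hK _ m1.toPQ (ih _ (by omega) m1 h3 rfl))
  have hE : PI A G p (Sy A G p ⊓ (L ⊓ 𝐍(JT q (Sy A G q ⊓ L)))) := (h.pi p).inf hN.inv
  refine (h.prod hN).sup_eq.ge.trans (sup_le ?_ (inf_le_left.trans (hK _ (hQ.pq' p) le_rfl)))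
  have e1 : Sy A G p ⊓ (L ⊓ 𝐍(JT q (Sy A G q ⊓ L))) ≤ L := inf_le_right.trans inf_le_left
  have e2 := inf_le_right.trans n1 (a := Sy A G p ⊓ (L ⊓ 𝐍(JT q (Sy A G q ⊓ L))))
  have e3 : V ≤ L₁ := (j2 _ (hV.pq' p) ((cent_comm.mp v4).trans (cent_le_norm _))).trans m2
  generalize Sy A G p ⊓ (L ⊓ 𝐍(JT q (Sy A G q ⊓ L))) = E at hE e1 e2
  refine (h.sup_star hE.le hE.inv).ge.trans (sup_le (le_sup_left.trans (hK _
    (((hE.inf norm_CA).pq q).sup (hQ.pq' p) ((inf_le_inf_right _ hE.le).trans UH.cent_norm))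
    le_sup_right)) (le_trans (le_inf ((comm_le_left hE.inv).trans e1) ?_) kC))
  by_contra hc
  obtain ⟨-, b, hb, b1, b2, -⟩ := h.l4 hpq hE hV (e1.trans v1) hc
  have hEb := hE.inf (h.nC1 hb)
  have hD := hEb.star
  have d1 := comm_le_left hEb.inv
  have d2 : ⁅E ⊓ C1 b, A⁆ ≤ 𝐍(V) := (d1.trans inf_le_left).trans (e1.trans v1)
  have t := h.tower hpq (pi_OpOf (p := p) m1.le m1.inv) hV hD
    (le_normalizer_OpOf (le_normalizer_of_le e3))
    (le_normalizer_OpOf (le_normalizer_of_le ((d1.trans inf_le_left).trans e2))) d2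
    (h.star_star hEb.le hEb.inv) hb b1 (d1.trans inf_le_right)
  refine b2 (cent_comm.mp (comm_eq_bot_iff.mp (le_bot_iff.mp (h3 ▸ Sig.le_OpOf_of_cent
    (m1.toPQ.sol hp.out hq.out) ((comm_le_left d2).trans e3) (hV.pg.to_le (comm_le_left d2))
    fun s hs => ?_))))
  have := Fact.mk hs
  by_cases e : OpOf s L₁ = ⊥
  · rw [e]; exact le_cent_bot
  rcases m1.pi s hs ((dvd_card_of_isPGroup_of_ne_bot (OpOf_isPGroup _) e).trans
    (card_dvd_of_le (OpOf_le _))) with rfl | rfl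
  exacts [t, absurd h3 e]

end Cfsg.Agent.Lib.Pt
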