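/- S1917: permutability of the invariant Sylow subgroups. -/
import Cfsg.Agent.Lib.Pt.Key
import Cfsg.Agent.Lib.Pt.Loc
import Cfsg.Agent.Lib.Pt.Ben

set_option autoImplicit false
set_option linter.unusedSectionVars false

namespace Cfsg.Agent.Lib.Pt

open Subgroup Cfsg.Agent.Lib.Core Cfsg.Agent.Lib.Glaub Cfsg.Agent.Lib.ZJ Cfsg.Agent.FT
  Cfsg.Agent.Lib.Fl
open scoped commutatorElement

universe u

variable {Γ : Type u} [Group Γ] [Finite Γ] {p q r : ℕ} [hp : Fact p.Prime] [hq : Fact q.Prime]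
  [hr : Fact r.Prime] {A G H K L M N E V X Y D : Subgroup Γ} {a b c : Γ}

theorem PQ.self_cent (hL : PQ A G p q L) (h : OpOf q L = ⊥) : L ⊓ 𝐂(OpOf p L) ≤ OpOf p L := by
  refine (psolv_of_isSolvable (hL.sol hp.out hq.out)).inf_centralizer_OpOf_le
    (le_bot_iff.mp ((le_OpOf (OppOf_le L) (OppOf_nrm p L).norm ?_).trans h.le))
  refine isPi_singleton_iff.mp fun s hs hd => ?_
  rcases hL.pi s hs (hd.trans (card_dvd_of_le (OppOf_le L))) with rfl | e
  exacts [absurd hd (OppOf_not_dvd L), e]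

/-- a `q`-subgroup centralizing `O_p(L)` is trivial -/
theorem PQ.eq_bot (hL : PQ A G p q L) (hpq : p ≠ q) (h : OpOf q L = ⊥) (hD : IsPGroup q D)
    (h1 : D ≤ L) (h2 : D ≤ 𝐂(OpOf p L)) : D = ⊥ :=
  eq_bot_of_isPGroup_of_not_dvd ((OpOf_isPGroup L).to_le ((le_inf h1 h2).trans (hL.self_cent h)))
    (not_dvd_card_of_isPGroup hD hpq)

/-- the two largest members over `P` and over `Q` -/
structure Two (r : ℕ) (A G : Subgroup Γ) (p q : ℕ) (H K : Subgroup Γ) : Prop where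
  mc : MC r A G
  nc : ¬ IsCyclic A
  ne : p ≠ q
  gp : Good A G p
  gq : Good A G q
  hH : MX A G p q H
  hK : MX A G p q K
  PH : Sy A G p ≤ H
  QK : Sy A G q ≤ K
  mH : ∀ L, PQ A G p q L → Sy A G p ≤ L → L ≤ H
  mK : ∀ L, PQ A G p q L → Sy A G q ≤ L → L ≤ K
  np : ¬ Perm A G p q

namespace Two

theorem symm (h : Two r A G p q H K) : Two r A G q p K H :=
  ⟨h.mc, h.nc, h.ne.symm, h.gq, h.gp, h.hK.symm, h.hH.symm, h.QK, h.PH,
    fun L a => h.mK L a.symm, fun L a => h.mH L a.symm, fun e => h.np e.symm⟩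

theorem oq (h : Two r A G p q H K) : OpOf q H = ⊥ := by
  by_contra e
  exact h.np (h.hH.perm h.PH (h.mc.key1 h.nc h.ne h.gq h.hH e))

theorem dich (h : Two r A G p q H K) (hc : c ∈ A) (c1 : c ≠ 1) :
    Sy A G p ⊓ C1 c ≤ K ∨ Sy A G q ⊓ C1 c ≤ H := by
  obtain ⟨J, hJ, -, mJ⟩ := h.mc.hallC h.ne hc c1
  obtain ⟨L, hL, hJL⟩ := hJ.exists_mx
  have h1 := (mJ _ (((h.mc.pi p).inf (h.mc.nC1 hc)).pq q) inf_le_right).trans hJL
  have h2 := (mJ _ (((h.mc.pi q).inf (h.mc.nC1 hc)).pq' p) inf_le_right).trans hJL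
  by_cases e : OpOf q L = ⊥
  · by_cases e' : OpOf p L = ⊥
    · have := hL.toPQ.self_cent e
      rw [e', cent_bot, inf_top_eq] at this
      exact Or.inl (h1.trans (this.trans bot_le))
    · exact Or.inr (h2.trans (h.mH L hL.toPQ (h.mc.key1 h.nc h.ne.symm h.gp hL.symm e')))
  · exact Or.inl (h1.trans (h.mK L hL.toPQ (h.mc.key1 h.nc h.ne h.gq hL e)))

/-- `P` is not generated inside `K` -/
theorem notK (h : Two r A G p q H K) (ha : a ∈ A) (h1 : Sy A G p ⊓ C1 a ≤ K)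
    (h2 : ∀ c ∈ A, c ∉ zpowers a → Sy A G p ⊓ C1 c ≤ K) : False := by
  refine h.np (h.hK.perm (h.mc.gen h.nc Sy_le (h.mc.pi p).inv fun c hc c1 => ?_) h.QK)
  by_cases e : c ∈ zpowers a
  · rwa [h.mc.C1_eq ha e c1]
  · exact h2 c hc e

/-- an invariant `p`-subgroup of `K` fixed by `a` but not by `A` moves `Y_c` -/
theorem move (h : Two r A G p q H K) (ha : a ∈ A) (a1 : a ≠ 1) (hE : PI A G p E) (hEK : E ≤ K)
    (hEa : E ≤ C1 a) (hn : ¬ E ≤ 𝐂(A)) (hc : c ∈ A) (hca : c ∉ zpowers a) :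
    ¬ OpOf q K ⊓ C1 c ≤ 𝐂((⁅E, A⁆ : Subgroup Γ)) := fun e => by
  rw [h.mc.star_eq hc ha a1 hca hEa] at e
  have h1 := h.mc.l1 h.ne hE (pi_OpOf h.hK.le h.hK.inv)
    (le_normalizer_OpOf (le_normalizer_of_le hEK)) hc e
  rw [← h.mc.star_eq hc ha a1 hca hEa] at h1
  exact hn (comm_eq_bot_iff.mp (h.hK.symm.toPQ.eq_bot h.ne.symm h.symm.oq hE.star.pg
    ((comm_le_left hE.inv).trans hEK) h1))

theorem move' (h : Two r A G p q H K) (ha : a ∈ A) (a1 : a ≠ 1) (hE : PI A G p E) (hEK : E ≤ K)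
    (hEa : E ≤ C1 a) (hn : ¬ E ≤ 𝐂(A)) (hc : c ∈ A) (hca : c ∉ zpowers a) :
    ¬ OpOf q K ⊓ C1 c ≤ 𝐂(A) := fun e =>
  h.move ha a1 hE hEK hEa hn hc hca (((le_inf inf_le_left e).trans (h.mc.l0 h.ne hE
    (pi_OpOf h.hK.le h.hK.inv) (le_normalizer_OpOf (le_normalizer_of_le hEK)))).trans
      (cent_anti (comm_le_left hE.inv)))

theorem cl1 (h : Two r A G p q H K) (hc : c ∈ A) (c1 : c ≠ 1) (h1 : Sy A G p ⊓ C1 c ≤ K) :
    OpOf p H ⊓ C1 c ≤ 𝐂(A) := by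
  by_contra hn
  have hX : PI A G p (OpOf p H) := pi_OpOf h.hH.le h.hH.inv
  have hY : PI A G q (OpOf q K) := pi_OpOf h.hK.le h.hK.inv
  have hE := hX.inf (h.mc.nC1 hc)
  have hEK := (inf_le_inf_right _ hX.le_Sy).trans h1
  refine h.notK hc h1 fun e he hec => (h.dich he (U2.ne_one hec)).resolve_right fun h2 => ?_
  refine h.move hc c1 hE hEK inf_le_right hn he hec (comm_eq_bot_iff.mp (le_bot_iff.mp
    ((le_inf ?_ ?_).trans (inf_eq_bot_of_isPGroup_of_not_dvd hX.pg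
      (not_dvd_card_of_isPGroup hY.pg h.ne)).le)))
  · exact (commutator_mono le_rfl ((comm_le_left hE.inv).trans inf_le_left)).trans (comm_le_right
      (le_normalizer_OpOf (le_normalizer_of_le ((inf_le_inf_right _ hY.le_Sy).trans h2))))
  · exact (commutator_mono inf_le_left le_rfl).trans (comm_le_left
      (le_normalizer_OpOf (le_normalizer_of_le ((comm_le_left hE.inv).trans hEK))))

theorem cl2 (h : Two r A G p q H K) (ha : a ∈ A) (a1 : a ≠ 1) (h1 : Sy A G p ⊓ C1 a ≤ K)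
    (ip : In A G p a) : False := by
  have hX : PI A G p (OpOf p H) := pi_OpOf h.hH.le h.hH.inv
  have hY : PI A G q (OpOf q K) := pi_OpOf h.hK.le h.hK.inv
  have hZ := (h.mc.pi q).inf h.hH.inv
  have nZ : Sy A G q ⊓ H ≤ 𝐍(OpOf p H) := le_normalizer_OpOf (le_normalizer_of_le inf_le_right)
  have zZ := (zpowers_le.mpr ha).trans hZ.inv
  have h2 : Sy A G q ⊓ H ≤ C1 a := by
    rw [← cent_zpowers, ← comm_eq_bot_iff]
    exact h.hH.toPQ.eq_bot h.ne h.oq (hZ.pg.to_le (comm_le_left zZ))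
      ((comm_le_left zZ).trans inf_le_right) (h.mc.l1 h.ne.symm hZ hX nZ ha
        (((le_inf inf_le_left (h.cl1 ha a1 h1)).trans (h.mc.l0 h.ne.symm hZ hX nZ)).trans
          (cent_anti (comm_le_left zZ))))
  by_cases e : Sy A G q ⊓ H ≤ 𝐂(A)
  · refine h.notK ha h1 fun c hc hca => (h.dich hc (U2.ne_one hca)).resolve_right fun h3 => ?_
    exact h.move' ha a1 ((h.mc.pi p).inf (h.mc.nC1 ha)) h1 inf_le_right ip hc hca
      ((le_inf (inf_le_left.trans hY.le_Sy) ((inf_le_inf_right _ hY.le_Sy).trans h3)).trans e)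
  refine h.gq a ha a1 (h.mc.gen h.nc Sy_le (h.mc.pi q).inv fun c hc c1 => ?_)
  by_cases hca : c ∈ zpowers a
  · rw [h.mc.C1_eq ha hca c1]; exact inf_le_right
  exact (le_inf inf_le_left ((h.dich hc c1).resolve_left fun h3 =>
    h.symm.move' ha a1 hZ inf_le_right h2 e hc hca (h.cl1 hc c1 h3))).trans h2

end Two

theorem MC.e1 (h : MC r A G) (nc : ¬ IsCyclic A) (hpq : p ≠ q) (gp : Good A G p) (gq : Good A G q)
    (ha : a ∈ A) (h1 : a ≠ 1) (ip : In A G p a) (iq : In A G q a) : Perm A G p q := by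
  by_contra np
  obtain ⟨K, hK, QK, mK⟩ := h.exK hpq
  obtain ⟨H, hH, PH, mH⟩ := h.exK hpq.symm
  have t : Two r A G p q H K :=
    ⟨h, nc, hpq, gp, gq, hH.symm, hK, PH, QK, fun L a => mH L a.symm, mK, np⟩
  exact (t.dich ha h1).elim (fun e => t.cl2 ha h1 e ip) fun e => t.symm.cl2 ha h1 e iq

theorem MC.e2 (h : MC r A G) (nc : ¬ IsCyclic A) (hpq : p ≠ q) (gq : Good A G q) (hb : b ∈ A)
    (b1 : b ≠ 1) (hP : Sy A G p ≤ C1 b) (hN : PQ A G p q N) (hPN : Sy A G p ≤ N)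
    (hQ : ¬ Sy A G q ⊓ N ≤ 𝐂(A)) : Perm A G p q := by
  obtain ⟨H, hH, hNH⟩ := hN.exists_mx
  by_cases e : OpOf q H = ⊥
  swap
  · exact hH.perm (hPN.trans hNH) (h.key1 nc hpq gq hH e)
  have hX : OpOf p H ≤ 𝐂(zpowers b) :=
    ((pi_OpOf hH.le hH.inv).le_Sy.trans hP).trans (cent_zpowers b).ge
  have h1 : H ≤ C1 b := by
    rw [← cent_zpowers]
    refine (h.actz hb hH.le hH.inv).le_centralizer ((le_inf (comm_le_left
      ((zpowers_le.mpr hb).trans hH.inv)) ?_).trans ((hH.toPQ.self_cent e).trans hX))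
    exact (commutator_mono le_rfl (cent_comm.mp hX)).trans (comm_le_right
      (le_normalizer_centralizer (le_normalizer_OpOf le_normalizer)))
  obtain ⟨J, hJ, -, mJ⟩ := h.hallC hpq hb b1
  obtain rfl := hH.max J hJ (mJ H hH.toPQ h1)
  have h2 : OpOf q (G ⊓ C1 b) ≤ OpOf q J := le_OpOf (mJ _ ((pi_OpOf inf_le_left (h.nGa hb)).pq' p)
    ((OpOf_le _).trans inf_le_right)) (le_normalizer_OpOf (le_normalizer_of_le (le_inf hJ.le h1)))
    (OpOf_isPGroup _)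
  exact absurd ((inf_le_inf_left _ (hNH.trans h1)).trans (comm_eq_bot_iff.mp (le_bot_iff.mp
    ((h.star_le nc hb b1).trans (h2.trans e.le))))) hQ

end Cfsg.Agent.Lib.Pt
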