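/- S1917: the final contradiction. -/
import Cfsg.Agent.Lib.Pt.Loc
import Cfsg.Agent.Lib.Pt.OfPerm
import Cfsg.Agent.Lib.Pt.Perm
import Cfsg.Agent.Lib.Pt.Fus

set_option autoImplicit false
set_option linter.unusedSectionVars false

namespace Cfsg.Agent.Lib.Pt

open Subgroup Cfsg.Agent.Lib.Core Cfsg.Agent.Lib.Glaub Cfsg.Agent.Lib.ZJ Cfsg.Agent.FT
  Cfsg.Agent.Lib.Fl
open scoped commutatorElement

universe u

variable {Γ : Type u} [Group Γ] [Finite Γ] {p q r s t : ℕ} [hp : Fact p.Prime] [hq : Fact q.Prime]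
  [hr : Fact r.Prime] [hs : Fact s.Prime] [ht : Fact t.Prime] {A G H L M N E V X Y D : Subgroup Γ}
  {a b c d : Γ}

/-- `q` is the target of an arrow -/
def Tg (A G : Subgroup Γ) (q : ℕ) : Prop := ∃ p : ℕ, p.Prime ∧ p ≠ q ∧ Arrow A G p q

/-- the exceptional element of a target -/
structure Tb (A G : Subgroup Γ) (q : ℕ) (d : Γ) : Prop where
  mem : d ∈ A
  ne : d ≠ 1
  inn : ∀ a ∈ A, a ∉ zpowers d → In A G q a

namespace MC
variable (h : MC r A G)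
include h

theorem tb (hT : Tg A G q) : ¬ IsCyclic A ∧ ∃ d, Tb A G q d := by
  obtain ⟨p, hp, hpq, ha⟩ := hT
  haveI := Fact.mk hp
  obtain ⟨nc, d, h1, h2, h3⟩ := h.toU2.target hpq ha
  exact ⟨nc, d, h1, h2, h3⟩

theorem tg_good (hT : Tg A G q) : Good A G q := by
  obtain ⟨nc, d, hd⟩ := h.tb hT
  intro c hc c1 hQ
  obtain ⟨a, ha, n1, n2⟩ := h.third nc hd.mem hc
  exact hd.inn a ha n1 ((inf_le_inf_right _ hQ).trans
    ((inf_comm _ _).le.trans (h.cent_of ha hc c1 n2)))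

theorem perm_a (hT : Tg A G t) (hst : s ≠ t) (gs : Good A G s) : Perm A G s t := by
  obtain ⟨nc, d, hd⟩ := h.tb hT
  by_contra hn
  refine gs d hd.mem hd.ne (h.gen nc Sy_le (h.pi s).inv fun a ha a1 => ?_)
  by_cases e : a ∈ zpowers d
  · exact inf_le_right.trans (h.C1_eq hd.mem e a1).le
  · by_contra e'
    exact hn (h.e1 nc hst gs (h.tg_good hT) ha a1
      (fun e'' => e' (e''.trans (cent_le_C1 hd.mem))) (hd.inn a ha e))

theorem perm_c (hT : Tg A G t) (hst : s ≠ t) (hc : c ∈ A) (c1 : c ≠ 1) (hS : Sy A G s ≤ C1 c)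
    (i : In A G t c) : Perm A G s t := by
  obtain ⟨J, j1, -, j3⟩ := h.hallC hst hc c1
  refine h.e2 (h.tb hT).1 hst (h.tg_good hT) hc c1 hS j1 (j3 _ ((h.pi s).pq t) hS) fun e => i ?_
  exact (le_inf inf_le_left (j3 _ (((h.pi t).inf (h.nC1 hc)).pq' s) inf_le_right)).trans e

theorem norm_star (hsq : s ≠ q) (nT : ¬ Tg A G s) (hP : Perm A G s q) :
    Sy A G s ≤ 𝐍((⁅Sy A G q, A⁆ : Subgroup Γ)) := by
  have hL : PQ A G s q (Sy A G s ⊔ Sy A G q) :=
    ⟨sup_le Sy_le Sy_le, hP, le_normalizer_sup (h.pi s).inv (h.pi q).inv⟩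
  have h1 := (h.toUH.sub hL.le hL.inv).lemR (p := q) (hL.sol hs.out hq.out) (by
    intro t' ht' hne ⟨E, V, hE, hV, hn, hc⟩
    haveI := Fact.mk ht'
    by_cases e : t' = s
    · subst e
      exact nT ⟨q, hq.out, hsq.symm, Arrow.mono ⟨E, V, hE, hV, hn, hc⟩ hL.le⟩
    · have : V = ⊥ := eq_bot_of_isPGroup_of_not_dvd hV.pg fun e' => by
        rcases hL.pi t' ht' (e'.trans (card_dvd_of_le hV.le)) with e1 | e1
        exacts [e e1, hne e1]
      exact hc fun x _ => this ▸ mem_centralizer_bot x)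
  rw [h.Sy_sub hL.le hL.inv, inf_eq_left.mpr le_sup_right] at h1
  have hV : PI A G q (OpOf q (Sy A G s ⊔ Sy A G q)) := pi_OpOf hL.le hL.inv
  have h2 := h.l5 hsq (h.pi s) hV (le_normalizer_OpOf (le_sup_left.trans le_normalizer))
  exact le_normalizer_of_commutator_le ((commutator_mono h1 le_rfl).trans
    (h2.trans (commutator_mono hV.le_Sy le_rfl)))

theorem star_ne (hX : X ≤ G) (hn : A ≤ 𝐍(X)) (hc : ¬ X ≤ 𝐂(A)) : ⁅X, A⁆ ≠ ⊥ := fun e =>
  hc (commutator_eq_bot_iff_le_centralizer.mp e)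

theorem star_not (hX : X ≤ G) (hn : A ≤ 𝐍(X)) (hc : ¬ X ≤ 𝐂(A)) : ¬ ⁅X, A⁆ ≤ 𝐂(A) := fun e =>
  hc ((h.act hX hn).le_centralizer e)

theorem perm_b (hQ : Tg A G q) (hb : b ∈ A) (b1 : b ≠ 1)
    (base : ¬ In A G q b ∨ ∀ t' : ℕ, t'.Prime → Tg A G t' → ∀ c ∈ A, c ≠ 1 → In A G t' c)
    (hT : Tg A G t) (hst : s ≠ t) (hS : ¬ Sy A G s ≤ C1 b) : Perm A G s t := by
  by_cases gs : Good A G s
  · exact h.perm_a hT hst gs
  obtain ⟨c, hc, c1, hSc⟩ : ∃ c ∈ A, c ≠ 1 ∧ Sy A G s ≤ C1 c := by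
    simpa only [Good, not_forall, not_not, exists_prop] using gs
  by_cases i : In A G t c
  · exact h.perm_c hT hst hc c1 hSc i
  have nb : ¬ In A G q b := base.resolve_right fun e => i (e t ht.out hT c hc c1)
  obtain ⟨nc, d, hd⟩ := h.tb hQ
  obtain ⟨-, d', hd'⟩ := h.tb hT
  have bd : zpowers b = zpowers d := h.zp_eq hd.mem (not_not.mp fun e => nb (hd.inn b hb e)) b1
  have cd : zpowers c = zpowers d' := h.zp_eq hd'.mem (not_not.mp fun e => i (hd'.inn c hc e)) c1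
  have cb : c ∉ zpowers b := fun e => hS (h.C1_eq hb e c1 ▸ hSc)
  have bc : b ∉ zpowers c := h.not_mem_symm hc b1 cb
  have iq : In A G q c := hd.inn c hc (bd ▸ cb)
  have hsq : s ≠ q := fun e => gs (e ▸ h.tg_good hQ)
  have htq : t ≠ q := fun e => i (e ▸ iq)
  have nT : ¬ Tg A G s := fun e => gs (h.tg_good e)
  have n1 := h.norm_star hsq nT (h.perm_c hQ hsq hc c1 hSc iq)
  have piQ := (h.pi q).star
  have c0 : ⁅Sy A G s, A⁆ ≤ 𝐂((⁅Sy A G q, A⁆ : Subgroup Γ)) := by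
    rw [h.star_eq hb hc c1 bc hSc]
    refine h.l1 hsq (h.pi s) piQ n1 hb ?_
    refine (le_inf inf_le_left ((inf_le_inf_right _ piQ.le_Sy).trans (not_not.mp nb))).trans ?_
    exact (h.l0 hsq (h.pi s) piQ n1).trans
      (cent_anti (comm_le_left ((zpowers_le.mpr hb).trans (h.pi s).inv)))
  obtain ⟨k, hk, kb, kc⟩ := h.third nc hb hc
  have k1 : k ≠ 1 := U2.ne_one kb
  have ik : In A G q k := hd.inn k hk (bd ▸ kb)
  have it : In A G t k := hd'.inn k hk (cd ▸ kc)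
  have pQ := (h.pi q).inf (h.nC1 hk)
  have pT := (h.pi t).inf (h.nC1 hk)
  obtain ⟨J, j1, -, j3⟩ := h.hall hst inf_le_left (h.nN pQ.star.inv)
    (h.norm_sol pQ.star.le (h.star_ne pQ.le pQ.inv ik) pQ.star.inv
      (isSolvable_of_isPGroup pQ.star.pg))
  refine h.e2 nc hst (h.tg_good hT) hc c1 hSc j1 (j3 _ ((h.pi s).pq t) (le_inf Sy_le ?_))
    fun e => h.star_not pT.le pT.inv it ((le_inf pT.star.le_Sy (j3 _ (pT.star.pq' s)
      (le_inf pT.star.le ((h.star_cent nc htq hk k1).trans (cent_le_norm _))))).trans e)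
  rw [← h.sup_star (H := Sy A G s) Sy_le (h.pi s).inv]
  refine sup_le (le_normalizer_commutator (le_normalizer_inf
    ((inf_le_inf_right _ Sy_le).trans UH.cent_norm)
    ((inf_le_right.trans (cent_le_C1 hk)).trans le_normalizer))
    (inf_le_right.trans (cent_le_norm _))) ?_
  exact (c0.trans (cent_anti (commutator_mono inf_le_left le_rfl))).trans (cent_le_norm _)

theorem false : False := by
  obtain ⟨q, b, hq, hQ, hb, b1, base⟩ : ∃ (q : ℕ) (b : Γ), q.Prime ∧ Tg A G q ∧ b ∈ A ∧ b ≠ 1 ∧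
      (¬ In A G q b ∨ ∀ t' : ℕ, t'.Prime → Tg A G t' → ∀ c ∈ A, c ≠ 1 → In A G t' c) := by
    by_cases e : ∀ t' : ℕ, t'.Prime → Tg A G t' → ∀ c ∈ A, c ≠ 1 → In A G t' c
    · obtain ⟨p, q, hp, hq, hpq, ha⟩ := h.exists_arrow
      haveI := Fact.mk hq
      obtain ⟨-, d, hd⟩ := h.tb (q := q) ⟨p, hp, hpq, ha⟩
      exact ⟨q, d, hq, ⟨p, hp, hpq, ha⟩, hd.mem, hd.ne, Or.inr e⟩
    · push Not at e
      obtain ⟨q, hq, hQ, c, hc, c1, i⟩ := e
      exact ⟨q, c, hq, hQ, hc, c1, Or.inl i⟩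
  haveI := Fact.mk hq
  refine h.of_perm hb b1 fun s t hs ht hst n1 n2 => ?_
  haveI := Fact.mk hs
  haveI := Fact.mk ht
  by_cases tt : Tg A G t
  · exact h.perm_b hQ hb b1 base tt hst n1
  by_cases ts : Tg A G s
  · exact (h.perm_b hQ hb b1 base ts hst.symm n2).symm
  have hsq : s ≠ q := fun e => ts (e ▸ hQ)
  have htq : t ≠ q := fun e => tt (e ▸ hQ)
  have piQ := (h.pi q).star
  obtain ⟨J, j1, -, j3⟩ := h.hall hst inf_le_left (h.nN piQ.inv)
    (h.norm_sol piQ.le (h.star_ne Sy_le (h.pi q).inv fun e =>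
      h.tg_good hQ b hb b1 (e.trans (cent_le_C1 hb))) piQ.inv (isSolvable_of_isPGroup piQ.pg))
  exact j1.perm (j3 _ ((h.pi s).pq t) (le_inf Sy_le
      (h.norm_star hsq ts (h.perm_b hQ hb b1 base hQ hsq n1))))
    (j3 _ ((h.pi t).pq' s) (le_inf Sy_le (h.norm_star htq tt (h.perm_b hQ hb b1 base hQ htq n2))))

end MC

end Cfsg.Agent.Lib.Pt
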