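/- S1917: reduction to the minimal counterexample of rank at most two. -/
import Cfsg.Agent.Lib.Pt.Defs
import Cfsg.Agent.Lib.Core.Hol

set_option autoImplicit false
set_option linter.unusedSectionVars false

namespace Cfsg.Agent.Lib.Pt

open Subgroup Cfsg.Agent.Lib.Core Cfsg.Agent.Lib.Glaub Cfsg.Agent.Lib.ZJ Cfsg.Agent.FT
  Cfsg.Agent.Lib.Fl
open scoped commutatorElement

universe u

variable {r : ℕ} [hr : Fact r.Prime]

theorem red_mul_card_le {Γ : Type*} [Group Γ] [Finite Γ] {H K : Subgroup Γ} (hK : IsPGroup r K)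
    (h : H < K) : r * Nat.card H ≤ Nat.card K := by
  obtain ⟨i, hi⟩ := IsPGroup.iff_card.mp (hK.to_le h.le)
  obtain ⟨j, hj⟩ := IsPGroup.iff_card.mp hK
  have h1 := card_lt_of_lt h
  rw [hi, hj] at h1 ⊢
  rw [← pow_succ']
  exact Nat.pow_le_pow_right hr.out.pos ((Nat.pow_lt_pow_iff_right hr.out.one_lt).mp h1)

theorem red_aux (H : ∀ (Γ : Type u) [Group Γ] [Finite Γ] (A G : Subgroup Γ), ¬ MC r A G) (n : ℕ) :
    ∀ (Γ : Type u) [Group Γ] [Finite Γ] (A G : Subgroup Γ), Nat.card G + Nat.card A = n →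
      UH r A G → Group.IsSolvable G := by
  induction n using Nat.strong_induction_on with
  | _ n ih =>
  intro Γ _ _ A G hn h
  by_contra ns
  have sol : ∀ K, K < G → A ≤ 𝐍(K) → Group.IsSolvable K := fun K hK hA =>
    ih _ (by have := card_lt_of_lt hK; omega) Γ A K rfl (h.sub hK.le hA)
  have quo : ∀ N, N ≤ G ⊔ A → G ⊔ A ≤ 𝐍(N) → Group.IsSolvable (N ⊓ G : Subgroup Γ) →
      (N ⊓ G ≠ ⊥ ∨ N ⊓ A ≠ ⊥) → False := by
    intro N hN hNn hs h0
    obtain ⟨Q, _, _, f, -, hk, -⟩ := exists_bar hN hNn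
    have e1 := card_bar_mul f (A := G) le_sup_left
    have e2 := card_bar_mul f (A := A) le_sup_right
    rw [hk] at e1 e2
    have l1 := Nat.le_of_dvd Nat.card_pos (card_bar_dvd f G)
    have l2 := Nat.le_of_dvd Nat.card_pos (card_bar_dvd f A)
    have key : ∀ {a b c : ℕ}, a * b = c → 0 < c → 1 < b → a < c := fun {a b c} e h1 h2 => by
      have : 0 < a := Nat.pos_of_ne_zero fun e' => by simp [e'] at e; omega
      nlinarith
    have lt : Nat.card (Core.bar f G) + Nat.card (Core.bar f A) < n := by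
      rcases h0 with h0 | h0
      · have := key e1 Nat.card_pos ((one_lt_card_iff_ne_bot _).mpr h0); omega
      · have := key e2 Nat.card_pos ((one_lt_card_iff_ne_bot _).mpr h0); omega
    exact ns (isSolvable_of_bar f le_sup_left
      (ih _ lt Q _ _ rfl (h.bar f le_sup_right le_sup_left)) (hk ▸ hs))
  have simp' : ∀ N, N ≤ G → G ≤ 𝐍(N) → A ≤ 𝐍(N) → N = ⊥ ∨ N = G := by
    intro N hN h1 h2
    by_contra hh
    push Not at hh
    refine quo N (hN.trans le_sup_left) (sup_le h1 h2) ?_ (Or.inl ?_)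
    · exact isSolvable_of_le (sol N (lt_of_le_of_ne hN hh.2) h2) inf_le_left
    · rw [inf_eq_left.mpr hN]; exact hh.1
  have faith : ∀ a ∈ A, G ≤ C1 a → a = 1 := by
    intro a ha hc
    by_contra h1
    have hz : zpowers a ≤ A := zpowers_le.mpr ha
    refine quo (zpowers a) (hz.trans le_sup_right) (sup_le ?_ (h.nzp ha))
      (isSolvable_of_le (isSolvable_of_isComm h.commA) (inf_le_left.trans hz)) (Or.inr ?_)
    · exact (hc.trans (cent_zpowers a).ge).trans (cent_le_norm _)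
    · rw [inf_eq_left.mpr hz]; exact fun e => h1 (zpowers_eq_bot.mp e)
  refine H Γ A G ⟨⟨h, fun a ha b hb b1 hab => ?_⟩, sol, simp', ns, faith⟩
  by_contra hh
  have hB : zpowers a ⊔ zpowers b < A :=
    lt_of_le_of_ne (sup_le (zpowers_le.mpr ha) (zpowers_le.mpr hb)) fun e => hh e.ge
  have hb' : zpowers b < zpowers a ⊔ zpowers b :=
    lt_of_le_of_ne le_sup_right fun e => hab (e.ge (le_sup_left (a := zpowers a) (mem_zpowers a)))
  have c1 := red_mul_card_le h.pgA hB
  have c2 := red_mul_card_le (h.pgA.to_le hB.le) hb'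
  rw [h.card_zp hb b1] at c2
  have c3 : r ^ 3 ≤ Nat.card A := by
    calc r ^ 3 = r * (r * r) := by ring
      _ ≤ _ := (Nat.mul_le_mul_left r c2).trans c1
  have nc : ¬ IsCyclic A := fun e => by
    obtain ⟨g, rfl⟩ := (Subgroup.isCyclic_iff_exists_zpowers_eq_top A).mp e
    exact hab (h.zp_eq (mem_zpowers g) hb b1 ▸ ha)
  have hm := Sig.solvable_sft (θ := fun a => G ⊓ C1 a) ⟨h.commA, h.ab.2⟩ c3
    (fun _ _ _ => inf_le_right) fun c hc c1 =>
      ⟨le_normalizer_inf h.inv (h.nC1 hc), sol _ (lt_of_le_of_ne inf_le_left fun e =>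
        c1 (faith c hc (e.ge.trans inf_le_right))) (le_normalizer_inf h.inv (h.nC1 hc)),
        not_dvd_card_of_le h.cop inf_le_left, fun _ _ _ => inf_le_inf_right _ inf_le_left⟩
  exact ns (isSolvable_of_le hm.sol (h.gen nc le_rfl h.inv fun c hc c1 =>
    le_iSup (fun a : {a : Γ // a ∈ A ∧ a ≠ 1} => G ⊓ C1 a.1) ⟨c, hc, c1⟩))

theorem UH.solvable {Γ : Type u} [Group Γ] [Finite Γ] {A G : Subgroup Γ}
    (H : ∀ (Γ : Type u) [Group Γ] [Finite Γ] (A G : Subgroup Γ), ¬ MC r A G)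
    (h : UH r A G) : Group.IsSolvable G := red_aux H _ Γ A G rfl h

theorem red_final (H : ∀ (Γ : Type u) [Group Γ] [Finite Γ] (A G : Subgroup Γ), ¬ MC r A G)
    {G : Type u} [Group G] [Finite G] (A : Subgroup (MulAut G))
    (hA : Cfsg.IsElementaryAbelian r A) (hcop : ¬ r ∣ Nat.card G)
    (huniq : ∀ p : ℕ, p.Prime → p ∣ Nat.card G →
      ∃! P : Sylow p G, ∀ φ ∈ A, (P : Subgroup G).map (MulEquiv.toMonoidHom φ) = P)
    (hodd : Odd (Nat.card {g : G // ∀ φ ∈ A, φ g = g})) : Group.IsSolvable G := by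
  obtain ⟨Γ, _, _, ι, σ, K⟩ := exists_hol (MonoidHom.id (MulAut G))
  have ab : IsAb r (A.map σ) := by
    refine ⟨?_, ?_⟩
    · haveI := hA.1
      exact isComm_iff_le_cent.mp inferInstance
    · rintro _ ⟨a, ha, rfl⟩
      rw [← map_pow, hA.2 a ha, map_one]
  have cop : ¬ r ∣ Nat.card ι.range := by rwa [K.card_range_ι]
  have act : CoprimeAct (A.map σ) ι.range := coprimeAct_of_isPGroup_left
    (isPGroup_of_forall_pow fun x hx => ⟨1, by simpa using ab.2 x hx⟩) cop
    (K.map_le_normalizer_range A)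
  have h : UH r (A.map σ) ι.range := by
    refine ⟨ab, K.map_le_normalizer_range A, cop, ?_, fun p hp => ?_⟩
    · have : Nat.card {g : G // ∀ φ ∈ A, φ g = g} =
          Nat.card (ι.range ⊓ 𝐂(A.map σ) : Subgroup Γ) := by
        refine Nat.card_congr (Equiv.ofBijective (fun g => ⟨ι g.1, ⟨g.1, rfl⟩,
          K.mem_centralizer_map_iff.mpr g.2⟩) ⟨fun a b e => ?_, ?_⟩)
        · exact Subtype.ext (K.ι_inj (congrArg Subtype.val e))
        · rintro ⟨_, ⟨g, rfl⟩, hg⟩
          exact ⟨⟨g, K.mem_centralizer_map_iff.mp hg⟩, rfl⟩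
      rw [← this]
      exact Nat.two_dvd_ne_zero.mpr (Nat.odd_iff.mp hodd)
    · haveI := Fact.mk hp
      by_cases hd : p ∣ Nat.card G
      · obtain ⟨P, -, hP⟩ := huniq p hp hd
        refine (P.isPGroup'.map ι).to_le (sSup_le fun X hX => ?_)
        obtain ⟨T, hT, hAT, hXT⟩ := act.exists_isSyl_ge hX.pg hX.le hX.inv
        have eT : (T.comap ι).map ι = T := map_comap_eq_self hT.le
        obtain ⟨S, hS⟩ := (hT.isPGroup.comap_of_injective ι K.ι_inj).exists_le_sylow
        have eS : (S : Subgroup G).map ι = T := hT.eq_of_le (S.isPGroup'.map ι)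
          (eT.ge.trans (map_mono hS)) (map_le_range _ _)
        rw [← hP S fun φ hφ => K.mem_normalizer_iff.mp (eS ▸ hAT ⟨φ, hφ, rfl⟩), eS]
        exact hXT
      · refine IsPGroup.of_bot.to_le (sSup_le fun X hX => le_of_eq ?_)
        exact eq_bot_of_isPGroup_of_not_dvd hX.pg
          (not_dvd_card_of_le (by rwa [K.card_range_ι]) hX.le)
  haveI := h.solvable H
  exact Group.isSolvable_of_isSolvable_injective (f := ι.rangeRestrict)
    (MonoidHom.rangeRestrict_injective_iff.mpr K.ι_inj)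

end Cfsg.Agent.Lib.Pt
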